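import Groth.Agent.FittLib.Sheaf
import Groth.Agent.CohBCLib.FreeNhd
import Groth.Agent.OmegaAffLib.StalkCrit

/-!
# Fitting ideal sheaves, generators and local freeness
-/

set_option autoImplicit false
set_option linter.style.haveILetI false
universe u
open CategoryTheory CategoryTheory.Limits AlgebraicGeometry TopologicalSpace Opposite

noncomputable section

namespace FittLib

/-- The unit sections of a free module. -/
def stdSec (Z : Scheme.{u}) (n : ℕ) (V : Z.Opens) (j : Fin n) : Γ(FlatMod.freeMod Z n, V) :=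
  (Sigma.ι (fun _ : Fin n => Coh.structureModule Z) j).app V (1 : Γ(Z, V))

/-- The coordinate of a section of a free module. -/
def coord {Z : Scheme.{u}} {n : ℕ} {V : Z.Opens} (e : Γ(FlatMod.freeMod Z n, V)) (j : Fin n) : Γ(Z, V) :=
  show Γ(Z, V) from (Sigma.desc fun i => if i = j then 𝟙 (Coh.structureModule Z) else 0 :
    FlatMod.freeMod Z n ⟶ Coh.structureModule Z).app V e

theorem sum_coord {Z : Scheme.{u}} {n : ℕ} {V : Z.Opens} (e : Γ(FlatMod.freeMod Z n, V)) :
    e = ∑ j, coord e j • stdSec Z n V j := by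
  classical
  let L := fun _ : Fin n => Coh.structureModule Z
  let π : ∀ j, FlatMod.freeMod Z n ⟶ Coh.structureModule Z := fun j =>
    Sigma.desc fun i => if i = j then 𝟙 _ else 0
  have hid : ∑ j, π j ≫ Sigma.ι L j = 𝟙 (∐ L) := by
    refine Sigma.hom_ext _ _ fun i => ?_
    rw [Preadditive.comp_sum, Finset.sum_eq_single i]
    · simp [π]; rfl
    · intro j _ hj
      rw [Sigma.ι_desc_assoc, if_neg hj.symm, zero_comp]
    · simp
  let ev : (∐ L ⟶ ∐ L) →+ Γ(∐ L, V) :=
    AddMonoidHom.mk' (fun f => f.app V e) fun f g => rfl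
  refine (congrArg ev hid).symm.trans ?_
  rw [map_sum]
  refine Finset.sum_congr rfl fun j _ => ?_
  change (Sigma.ι L j).app V ((π j).app V e) = _
  refine Eq.trans ?_ (QCohLib.app_smul (Sigma.ι L j) V (coord e j) (1 : Γ(Z, V)))
  exact congrArg _ (mul_one (coord e j)).symm

theorem coord_stdSec {Z : Scheme.{u}} {n : ℕ} {V : Z.Opens} (i j : Fin n) :
    coord (stdSec Z n V i) j = if i = j then 1 else 0 := by
  have h : Sigma.ι (fun _ : Fin n => Coh.structureModule Z) i ≫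
      (Sigma.desc fun k => if k = j then 𝟙 (Coh.structureModule Z) else 0 : FlatMod.freeMod Z n ⟶ Coh.structureModule Z) =
      if i = j then 𝟙 _ else 0 := Sigma.ι_desc _ _
  refine (congrArg (fun φ : Coh.structureModule Z ⟶ Coh.structureModule Z => φ.app V (1 : Γ(Z, V))) h).trans ?_
  split_ifs <;> rfl

theorem coord_sum_smul {Z : Scheme.{u}} {n : ℕ} {V : Z.Opens} (c : Fin n → Γ(Z, V)) (j : Fin n) :
    coord (∑ i, c i • stdSec Z n V i) j = c j := by
  refine (map_sum ((Sigma.desc fun k => if k = j then 𝟙 (Coh.structureModule Z) else 0 :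
    FlatMod.freeMod Z n ⟶ Coh.structureModule Z).app V).hom _ _).trans ?_
  refine (Finset.sum_congr rfl fun i _ => (QCohLib.app_smul _ V (c i) _).trans
    (congrArg (fun t : Γ(Z, V) => c i * t) (coord_stdSec i j))).trans ?_
  exact (Finset.sum_eq_single j (fun i _ hij => (congrArg (c i * ·) (if_neg hij)).trans (mul_zero (c i))) fun h => absurd (Finset.mem_univ j) h).trans ((congrArg (c j * ·) (if_pos rfl)).trans (mul_one (c j)))

variable {X : Scheme.{u}} (F : X.Modules)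

theorem smul_restrict (U : X.Opens) (V : (U : Scheme.{u}).Opens) (c : Γ(U, V)) (m : Γ(F.restrict U.ι, V)) :
    (show Γ(F, U.ι ''ᵁ V) from (c • m : Γ(F.restrict U.ι, V))) =
      (show Γ(X, U.ι ''ᵁ V) from c) • (show Γ(F, U.ι ''ᵁ V) from m) := by
  refine (Scheme.Modules.smul_restrictAppIso_hom_apply U.ι F V c m).trans ?_
  rw [Scheme.Opens.ι_appIso]
  rfl

/-- An epimorphism from a free module gives generators on affine opens. -/
theorem exists_gen_of_epi [Coh.IsQCoh F] {r : ℕ} {U : X.Opens} (π : FlatMod.freeMod (↑U) r ⟶ F.restrict U.ι) [Epi π]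
    {V : X.Opens} (hV : IsAffineOpen V) (hVU : V ≤ U) :
    ∃ σ : Fin r → Γ(F, V), Submodule.span Γ(X, V) (Set.range σ) = ⊤ := by
  obtain ⟨V', hV', rfl⟩ : ∃ V' : (U : Scheme.{u}).Opens, IsAffineOpen V' ∧ U.ι ''ᵁ V' = V := by
    refine ⟨U.ι ⁻¹ᵁ V, hV.preimage_of_isOpenImmersion U.ι (by simpa using hVU), ?_⟩
    rw [Scheme.Hom.image_preimage_eq_opensRange_inf, Scheme.Opens.opensRange_ι]
    exact inf_eq_right.mpr hVU
  haveI : Coh.IsQCoh (F.restrict U.ι) := inferInstance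
  haveI : Coh.IsQCoh (FlatMod.freeMod (↑U) r) := LocSuppLib.isQCoh_freeMod _ r
  let σ : Fin r → Γ(F, U.ι ''ᵁ V') := fun j => π.app V' (stdSec _ r V' j)
  refine ⟨σ, Submodule.eq_top_iff'.mpr fun t => ?_⟩
  obtain ⟨e, he⟩ := RichLib.IsFPAffine.appLin_surjective π hV' (show Γ(F.restrict U.ι, V') from t)
  have h2 : t = ∑ j, (show Γ(X, U.ι ''ᵁ V') from coord (Z := (U : Scheme.{u})) (V := V') e j) • σ j := by
    refine he.symm.trans ((congrArg (fun z => π.app V' z) (sum_coord e)).trans ?_)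
    refine (map_sum (π.app V').hom _ _).trans (Finset.sum_congr rfl fun j _ => ?_)
    exact (QCohLib.app_smul π V' _ _).trans (smul_restrict F U V' _ _)
  rw [h2]
  exact Submodule.sum_mem _ fun j _ => Submodule.smul_mem _ _ (Submodule.subset_span ⟨j, rfl⟩)

/-- A trivialisation gives a basis of sections on smaller opens. -/
theorem nonempty_basis_of_iso {r : ℕ} {U : X.Opens} (φ : F.restrict U.ι ≅ FlatMod.freeMod (↑U) r)
    {V : X.Opens} (hVU : V ≤ U) : Nonempty (Module.Basis (Fin r) Γ(X, V) Γ(F, V)) := by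
  obtain ⟨V', rfl⟩ : ∃ V' : (U : Scheme.{u}).Opens, U.ι ''ᵁ V' = V := by
    refine ⟨U.ι ⁻¹ᵁ V, ?_⟩
    rw [Scheme.Hom.image_preimage_eq_opensRange_inf, Scheme.Opens.opensRange_ι]
    exact inf_eq_right.mpr hVU
  let σ : Fin r → Γ(F, U.ι ''ᵁ V') := fun j => φ.inv.app V' (stdSec _ r V' j)
  have hsum : ∀ c : Fin r → Γ(U, V'), φ.inv.app V' (∑ j, c j • stdSec _ r V' j) =
      (show Γ(F, U.ι ''ᵁ V') from ∑ j, (show Γ(X, U.ι ''ᵁ V') from c j) • σ j) := fun c =>
    (map_sum (φ.inv.app V').hom _ _).trans (Finset.sum_congr rfl fun j _ =>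
      (QCohLib.app_smul φ.inv V' _ _).trans (smul_restrict F U V' _ _))
  have hsurj : ∀ e, φ.hom.app V' (φ.inv.app V' e) = e := fun e =>
    congrArg (fun ψ : FlatMod.freeMod (↑U) r ⟶ FlatMod.freeMod (↑U) r => ψ.app V' e) φ.inv_hom_id
  refine ⟨Module.Basis.mk (v := σ) (Fintype.linearIndependent_iff.mpr fun c hc j => ?_) fun t _ => ?_⟩
  · have h0 := hsurj (∑ j, (show Γ(U, V') from c j) • stdSec _ r V' j)
    rw [hsum] at h0
    rw [hc] at h0
    have h1 := congrArg (fun e => coord e j) ((map_zero (φ.hom.app V').hom).symm.trans h0)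
    refine (coord_sum_smul (fun i => (show Γ(U, V') from c i)) j).symm.trans (h1.symm.trans ?_)
    exact map_zero ((Sigma.desc fun k => if k = j then 𝟙 (Coh.structureModule (U : Scheme.{u})) else 0 :
      FlatMod.freeMod (↑U) r ⟶ Coh.structureModule (U : Scheme.{u})).app V').hom
  · have h2 : t = ∑ j, (show Γ(X, U.ι ''ᵁ V') from coord (Z := (U : Scheme.{u})) (V := V') (φ.hom.app V' t) j) • σ j := by
      refine Eq.trans ?_ (hsum _)
      rw [← sum_coord]
      exact (congrArg (fun ψ : F.restrict U.ι ⟶ F.restrict U.ι => ψ.app V' t) φ.hom_inv_id).symm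
    rw [h2]
    exact Submodule.sum_mem _ fun j _ => Submodule.smul_mem _ _ (Submodule.subset_span ⟨j, rfl⟩)

variable [Coh.IsQCoh F]

/-- Off the `r`-th Fitting ideal there are `r` generators near the point. -/
theorem exists_gen_basicOpen (hft : CohB1.IsFT F) {U : X.Opens} (hU : IsAffineOpen U) {x : X} (hx : x ∈ U) {r : ℕ}
    (h : x ∉ (Fitt.sheafIdeal F r).support) :
    ∃ D : X.Opens, IsAffineOpen D ∧ x ∈ D ∧
      ∃ σ : Fin r → Γ(F, D), Submodule.span Γ(X, D) (Set.range σ) = ⊤ := by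
  haveI := QCohLib.finite_of_isFT hft hU
  rw [mem_support_iff F hft r hU hx] at h
  obtain ⟨f, hf, g, hg⟩ := exists_smul_mem_span h
  let := Module.compHom Γ(F, X.basicOpen f) (X.presheaf.map (homOfLE (X.basicOpen_le f)).op).hom
  haveI := FlatnLib.isLocalizedModule_res F hU f (fun _ _ => rfl) (resLin F f) (fun _ => rfl)
  have hxf : x ∈ X.basicOpen f := by
    letI : Algebra Γ(X, U) (X.presheaf.stalk x) := (X.presheaf.germ U x hx).hom.toAlgebra
    have hloc := hU.isLocalization_stalk ⟨x, hx⟩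
    exact (X.mem_basicOpen f x hx).mpr
      ((IsLocalization.AtPrime.isUnit_to_map_iff (X.presheaf.stalk x) _ f).mpr hf)
  refine ⟨X.basicOpen f, hU.basicOpen f, hxf, fun i => resLin F f (g i), Submodule.eq_top_iff'.mpr fun y => ?_⟩
  obtain ⟨⟨m, ⟨_, k, rfl⟩⟩, hk⟩ := IsLocalizedModule.surj (Submonoid.powers f) (resLin F f) y
  let ρ := (X.presheaf.map (homOfLE (X.basicOpen_le f)).op).hom
  have hu : IsUnit (ρ (f * f ^ k)) := by
    rw [map_mul, map_pow]
    exact (RingedSpace.isUnit_res_basicOpen X.toRingedSpace f).mul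
      ((RingedSpace.isUnit_res_basicOpen X.toRingedSpace f).pow k)
  refine (Submodule.smul_mem_iff_of_isUnit _ hu).mp ?_
  obtain ⟨c, hc⟩ := (Submodule.mem_span_range_iff_exists_fun Γ(X, U)).mp (hg m)
  have h2 : ρ (f * f ^ k) • y = ∑ i, ρ (c i) • resLin F f (g i) := by
    have h3 := congrArg (resLin F f) hc
    rw [map_sum, map_smul, ← hk] at h3
    simp only [map_smul] at h3
    rw [show ρ (f * f ^ k) • y = f • f ^ k • y from (congrArg (· • y) (map_mul ρ f (f ^ k))).trans (mul_smul _ _ _)]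
    exact h3.symm
  rw [h2]
  exact Submodule.sum_mem _ fun j _ => Submodule.smul_mem _ _ (Submodule.subset_span ⟨j, rfl⟩)

/-- Generated by `r` sections near a point iff the `r`-th Fitting ideal is the unit ideal there. -/
theorem generated_iff (hft : CohB1.IsFT F) (x : X) (r : ℕ) :
    (∃ U : X.Opens, x ∈ U ∧ ∃ π : FlatMod.freeMod (↑U) r ⟶ F.restrict U.ι, Epi π) ↔
      x ∉ (Fitt.sheafIdeal F r).support := by
  constructor
  · rintro ⟨U, hxU, π, hπ⟩ hmem
    obtain ⟨_, ⟨V, hV, rfl⟩, hxV, hVU⟩ := X.isBasis_affineOpens.exists_subset_of_mem_open hxU U.2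
    obtain ⟨σ, hσ⟩ := exists_gen_of_epi F π hV hVU
    rw [mem_support_iff F hft r hV hxV, ideal_top_of_gen σ hσ le_rfl, top_le_iff] at hmem
    exact (hV.primeIdealOf ⟨x, hxV⟩).2.ne_top hmem
  · intro h
    obtain ⟨_, ⟨U, hU, rfl⟩, hx, -⟩ := X.isBasis_affineOpens.exists_subset_of_mem_open (Set.mem_univ x) isOpen_univ
    obtain ⟨D, hD, hxD, σ, hσ⟩ := exists_gen_basicOpen F hft hU hx h
    refine ⟨D, hxD, ?_⟩
    haveI : IsAffine (D : Scheme.{u}) := hD
    haveI : Coh.IsQCoh (F.restrict D.ι) := inferInstance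
    haveI : Coh.IsQCoh (FlatMod.freeMod (↑D) r) := LocSuppLib.isQCoh_freeMod _ r
    have key : ∀ V : X.Opens, V = D → ∃ σ : Fin r → Γ(F, V), Submodule.span Γ(X, V) (Set.range σ) = ⊤ := by
      rintro _ rfl
      exact ⟨σ, hσ⟩
    obtain ⟨τ, hτ⟩ := key (D.ι ''ᵁ ⊤) (Scheme.Opens.ι_image_top D)
    let π : FlatMod.freeMod (↑D) r ⟶ F.restrict D.ι :=
      Sigma.desc fun i => (KFlatLib.unitSecEquiv (F.restrict D.ι)).symm (τ i)
    refine ⟨π, OmegaAffLib.epi_of_surjective_charts π fun y => ⟨⊤, isAffineOpen_top _, trivial, fun t => ?_⟩⟩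
    obtain ⟨c, hc⟩ := (Submodule.mem_span_range_iff_exists_fun Γ(X, D.ι ''ᵁ ⊤)).mp
      (hτ.ge (Submodule.mem_top (x := (show Γ(F, D.ι ''ᵁ ⊤) from t))))
    refine ⟨∑ j, (show Γ(D, ⊤) from c j) • stdSec _ r ⊤ j, ?_⟩
    refine (map_sum (π.app ⊤).hom _ _).trans ((Finset.sum_congr rfl fun j _ => ?_).trans hc)
    refine (QCohLib.app_smul π ⊤ _ _).trans ((smul_restrict F D ⊤ _ _).trans ?_)
    refine congrArg (c j • ·) ?_
    refine Eq.trans ?_ ((KFlatLib.unitSecEquiv (F.restrict D.ι)).apply_symm_apply (τ j))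
    rw [← Sigma.ι_desc (fun i => (KFlatLib.unitSecEquiv (F.restrict D.ι)).symm (τ i)) j]
    rfl

/-- Local freeness of rank `r` via Fitting ideals. -/
theorem isFinLocFreeOfRank_iff (hft : CohB1.IsFT F) (r : ℕ) :
    FlatMod.IsFinLocFreeOfRank r F ↔
      (∀ k : ℕ, k < r → Fitt.sheafIdeal F k = ⊥) ∧ (∀ k : ℕ, r ≤ k → Fitt.sheafIdeal F k = ⊤) := by
  constructor
  · intro h
    have key : ∀ x : X, ∃ V : X.affineOpens, x ∈ V.1 ∧ Nonempty (Module.Basis (Fin r) Γ(X, V.1) Γ(F, V.1)) := by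
      intro x
      obtain ⟨U, hxU, ⟨φ⟩⟩ := h x
      obtain ⟨_, ⟨V, hV, rfl⟩, hxV, hVU⟩ := X.isBasis_affineOpens.exists_subset_of_mem_open hxU U.2
      exact ⟨⟨V, hV⟩, hxV, nonempty_basis_of_iso F φ hVU⟩
    choose V hxV hb using key
    have hcov : ⨆ x, (V x).1 = ⊤ := top_le_iff.mp fun x _ => Opens.mem_iSup.mpr ⟨x, hxV x⟩
    refine ⟨fun k hk => ?_, fun k hk => ?_⟩ <;>
    · refine Scheme.IdealSheafData.ext_of_iSup_eq_top V hcov fun x => ?_
      obtain ⟨b⟩ := hb x
      rw [sheafIdeal_ideal F hft k, ideal_of_basis b k, Fintype.card_fin]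
      split_ifs with h' <;> first | rfl | omega
  · rintro ⟨h1, h2⟩ x
    obtain ⟨_, ⟨W, hW, rfl⟩, hx, -⟩ := X.isBasis_affineOpens.exists_subset_of_mem_open (Set.mem_univ x) isOpen_univ
    haveI := QCohLib.finite_of_isFT hft hW
    have hbot : ∀ k, k < r → Fitt.ideal Γ(X, W) Γ(F, W) k = ⊥ := fun k hk =>
      (sheafIdeal_eq_bot_iff F hft k).mp (h1 k hk) ⟨W, hW⟩
    obtain ⟨f, hf, hfree, hrank⟩ := localFree_of_ideals r hbot
      ((sheafIdeal_eq_top_iff F hft r).mp (h2 r le_rfl) ⟨W, hW⟩) (hW.primeIdealOf ⟨x, hx⟩).asIdeal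
    haveI := nontrivial_away hf
    haveI : Module.Finite (Localization.Away f) (LocalizedModule (Submonoid.powers f) Γ(F, W)) :=
      Module.Finite.of_isLocalizedModule (Submonoid.powers f) (LocalizedModule.mkLinearMap (Submonoid.powers f) Γ(F, W))
    refine ⟨X.basicOpen f, ?_, CohBCLib.nonempty_restrict_iso_freeMod hW F f (Module.finBasisOfFinrankEq _ _ hrank)⟩
    letI : Algebra Γ(X, W) (X.presheaf.stalk x) := (X.presheaf.germ W x hx).hom.toAlgebra
    have hloc := hW.isLocalization_stalk ⟨x, hx⟩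
    exact (X.mem_basicOpen f x hx).mpr
      ((IsLocalization.AtPrime.isUnit_to_map_iff (X.presheaf.stalk x) _ f).mpr hf)

end FittLib

end
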