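import Groth.Agent.FittLib.Sheaf
import Groth.Agent.KFlatLib.AffinePull
import Groth.Agent.S4666

/-!
# Fitting ideal sheaves and inverse images
-/

set_option autoImplicit false
set_option linter.style.haveILetI false
universe u
open CategoryTheory CategoryTheory.Limits AlgebraicGeometry TopologicalSpace Opposite

noncomputable section

namespace FittLib

variable {T S : Scheme.{u}} (f : T ⟶ S) (F : S.Modules) [Coh.IsQCoh F]

theorem finite_and_ideal_pullback (hft : CohB1.IsFT F) {U : S.Opens} (hU : IsAffineOpen U) {W : T.Opens}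
    (hW : IsAffineOpen W) (e : W ≤ f ⁻¹ᵁ U) (i : ℕ) :
    Module.Finite Γ(T, W) Γ((Scheme.Modules.pullback f).obj F, W) ∧
      Fitt.ideal Γ(T, W) Γ((Scheme.Modules.pullback f).obj F, W) i =
        (Fitt.ideal Γ(S, U) Γ(F, U) i).map (f.appLE U W e).hom := by
  haveI : Module.Finite Γ(S, U) Γ(F, U) := QCohLib.finite_of_isFT hft hU
  letI : Algebra Γ(S, U) Γ(T, W) := (f.appLE U W e).hom.toAlgebra
  letI : Module Γ(S, U) Γ(KFlatLib.pb f F, W) := Module.compHom _ (f.appLE U W e).hom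
  haveI : IsScalarTower Γ(S, U) Γ(T, W) Γ(KFlatLib.pb f F, W) :=
    IsScalarTower.of_algebraMap_smul fun _ _ => rfl
  let ψ : Γ(F, U) →ₗ[Γ(S, U)] Γ(KFlatLib.pb f F, W) :=
    { toFun := KFlatLib.puSecLE f F e
      map_add' := fun a b => map_add (KFlatLib.puSecLE f F e) a b
      map_smul' := fun r x => KFlatLib.puSecLE_smul f F e r x }
  have hb := KFlatLib.isBaseChange_puSec f F hU hW e (fun _ => rfl) ψ (fun _ => rfl)
  exact ⟨Module.Finite.equiv hb.equiv, ideal_isBaseChange hb i⟩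

/-- The affine charts of `T` lying over affine opens of `S`. -/
theorem exists_charts : ∀ x : T, ∃ (W : T.affineOpens) (U : S.affineOpens), x ∈ W.1 ∧ W.1 ≤ f ⁻¹ᵁ U.1 := by
  intro x
  obtain ⟨U, hU, hxU, -⟩ := exists_isAffineOpen_mem_and_subset (X := S) (x := f x) (U := ⊤) trivial
  obtain ⟨W, hW, hxW, hle⟩ := exists_isAffineOpen_mem_and_subset (X := T) (x := x) (U := f ⁻¹ᵁ U) hxU
  exact ⟨⟨W, hW⟩, ⟨U, hU⟩, hxW, hle⟩

/-- Fitting ideal sheaves commute with inverse image. -/
theorem sheafIdeal_comap (hft : CohB1.IsFT F) (i : ℕ) :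
    (Fitt.sheafIdeal F i).comap f = Fitt.sheafIdeal ((Scheme.Modules.pullback f).obj F) i := by
  choose W U hxW e using exists_charts f
  haveI : Coh.IsQCoh ((Scheme.Modules.pullback f).obj F) := KFlatLib.isQCoh_pullback f F
  have hft' : CohB1.IsFT ((Scheme.Modules.pullback f).obj F) := QCohLib.isFT_of_finite fun x =>
    ⟨(W x).1, (W x).2, hxW x, (finite_and_ideal_pullback f F hft (U x).2 (W x).2 (e x) 0).1⟩
  have hcov : ⨆ x, (W x).1 = ⊤ := top_le_iff.mp fun x _ => Opens.mem_iSup.mpr ⟨x, hxW x⟩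
  refine Scheme.IdealSheafData.ext_of_iSup_eq_top W hcov fun x => ?_
  rw [Groth.Agent.S4666.ideal_comap_eq _ f (U x) (W x) (e x), sheafIdeal_ideal F hft i,
    sheafIdeal_ideal _ hft' i, (finite_and_ideal_pullback f F hft (U x).2 (W x).2 (e x) i).2]

end FittLib

end
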