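import Groth.Agent.FittLib.BaseChange

/-!
# Fitting ideals detect local freeness, and the principal case
-/

set_option autoImplicit false
universe u v w
open Matrix TensorProduct

noncomputable section

namespace FittLib

variable {R : Type u} [CommRing R] {M : Type v} [AddCommGroup M] [Module R M]

/-- A generating tuple with vanishing lower Fitting ideal is a basis. -/
theorem linearIndependent_of_ideal_eq_bot {r : ℕ} (x : Fin r → M) (hx : Submodule.span R (Set.range x) = ⊤)
    (h : ∀ k < r, Fitt.ideal R M k = ⊥) : LinearIndependent R x := by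
  rcases r with _ | r
  · exact linearIndependent_empty_type
  refine Fintype.linearIndependent_iff.mpr fun z hz i => ?_
  have h1 := h r (Nat.lt_succ_self r)
  rw [ideal_eq x hx, show r + 1 - r = 1 by omega] at h1
  have h2 : minor (fun _ : Fin 1 => z) (fun _ => i) ∈ J (rel (R := R) x) 1 := minor_mem _ fun _ => hz
  rw [h1, Ideal.mem_bot] at h2
  simpa [minor] using h2

theorem nontrivial_away {p : Ideal R} [p.IsPrime] {f : R} (hf : f ∉ p) : Nontrivial (Localization.Away f) := by
  refine ⟨⟨0, 1, fun h => ?_⟩⟩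
  obtain ⟨⟨_, m, rfl⟩, hm⟩ :=
    (IsLocalization.map_eq_zero_iff (Submonoid.powers f) (Localization.Away f) (1 : R)).mp ((map_one _).trans h.symm)
  exact hf (Ideal.IsPrime.mem_of_pow_mem ‹_› m ((show f ^ m = 0 by simpa using hm) ▸ zero_mem p))

variable [Module.Finite R M]

theorem ideals_of_localFree (r : ℕ) (h : ∀ (p : Ideal R) [p.IsPrime], ∃ f : R, f ∉ p ∧
      Module.Free (Localization.Away f) (LocalizedModule (Submonoid.powers f) M) ∧
        Module.finrank (Localization.Away f) (LocalizedModule (Submonoid.powers f) M) = r) :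
    (∀ k, k < r → Fitt.ideal R M k = ⊥) ∧ (∀ k, r ≤ k → Fitt.ideal R M k = ⊤) := by
  have key : ∀ (p : Ideal R) [p.IsPrime] (k : ℕ), ∃ f : R, f ∉ p ∧
      (Fitt.ideal R M k).map (algebraMap R (Localization.Away f)) = if r ≤ k then ⊤ else ⊥ := by
    intro p _ k
    obtain ⟨f, hf, hfree, hrank⟩ := h p
    refine ⟨f, hf, ?_⟩
    have : Nontrivial (Localization.Away f) := nontrivial_away hf
    haveI : Module.Finite (Localization.Away f) (LocalizedModule (Submonoid.powers f) M) :=
      Module.Finite.of_isLocalizedModule (Submonoid.powers f) (LocalizedModule.mkLinearMap (Submonoid.powers f) M)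
    rw [← ideal_localized, ideal_of_basis (Module.finBasisOfFinrankEq _ _ hrank) k, Fintype.card_fin]
  refine ⟨fun k hk => ?_, fun k hk => ?_⟩
  · refine eq_bot_iff.mpr fun a ha => ?_
    by_contra ha0
    obtain ⟨p, hp, hle⟩ := Ideal.exists_le_maximal (Submodule.colon (⊥ : Ideal R) {a}) fun htop => ha0 (by
      have h1 : (1 : R) ∈ Submodule.colon (⊥ : Ideal R) {a} := htop ▸ trivial
      simpa [Submodule.mem_colon] using h1)
    obtain ⟨f, hf, hmap⟩ := key p k
    rw [if_neg (by omega)] at hmap
    have h0 : algebraMap R (Localization.Away f) a = 0 := by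
      have := Ideal.mem_map_of_mem (algebraMap R (Localization.Away f)) ha
      rwa [hmap, Ideal.mem_bot] at this
    obtain ⟨⟨_, m, rfl⟩, hm⟩ := (IsLocalization.map_eq_zero_iff (Submonoid.powers f) _ a).mp h0
    exact hf (hp.isPrime.mem_of_pow_mem m (hle (by simpa [Submodule.mem_colon] using hm)))
  · by_contra hne
    obtain ⟨p, hp, hle⟩ := Ideal.exists_le_maximal _ hne
    obtain ⟨f, hf, hmap⟩ := key p k
    rw [if_pos hk] at hmap
    refine (IsLocalization.map_algebraMap_ne_top_iff_disjoint (Submonoid.powers f) (Localization.Away f) _).mpr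
      (Set.disjoint_left.mpr ?_) hmap
    rintro _ ⟨m, rfl⟩ hm
    exact hf (hp.isPrime.mem_of_pow_mem m (hle hm))

theorem localFree_of_ideals (r : ℕ) (h1 : ∀ k, k < r → Fitt.ideal R M k = ⊥) (h2 : Fitt.ideal R M r = ⊤)
    (p : Ideal R) [p.IsPrime] : ∃ f : R, f ∉ p ∧
      Module.Free (Localization.Away f) (LocalizedModule (Submonoid.powers f) M) ∧
        Module.finrank (Localization.Away f) (LocalizedModule (Submonoid.powers f) M) = r := by
  obtain ⟨f, hf, g, hg⟩ := (not_le_iff_gen_away (M := M) p r).mp (h2 ▸ fun h => ‹p.IsPrime›.ne_top (top_le_iff.mp h))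
  have : Nontrivial (Localization.Away f) := nontrivial_away hf
  have hli : LinearIndependent (Localization.Away f) g := linearIndependent_of_ideal_eq_bot g hg fun k hk => by
    rw [ideal_localized, h1 k hk, Ideal.map_bot]
  let b := Module.Basis.mk hli hg.ge
  exact ⟨f, hf, Module.Free.of_basis b, by rw [Module.finrank_eq_card_basis b, Fintype.card_fin]⟩

theorem exists_gen_of_principal [IsLocalRing R] (k : ℕ) (f : R) (hf : Fitt.ideal R M k = Ideal.span {f}) :
    ∃ g : Fin k → M ⧸ LinearMap.ker (f • (LinearMap.id : M →ₗ[R] M)),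
      Submodule.span R (Set.range g) = ⊤ := by
  classical
  let N := LinearMap.ker (f • (LinearMap.id : M →ₗ[R] M))
  have hN : ∀ m : M, m ∈ N ↔ f • m = 0 := fun m => Iff.rfl
  by_cases hf0 : f = 0
  · refine ⟨fun _ => 0, Submodule.eq_top_iff'.mpr fun q => ?_⟩
    obtain ⟨m, rfl⟩ := N.mkQ_surjective q
    rw [show N.mkQ m = 0 from (Submodule.Quotient.mk_eq_zero N).mpr ((hN m).mpr (by rw [hf0, zero_smul]))]
    exact zero_mem _
  obtain ⟨n, x, hx⟩ := exists_gen (R := R) M
  have hqx : Submodule.span R (Set.range (N.mkQ ∘ x)) = ⊤ := by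
    rw [Set.range_comp, ← Submodule.map_span, hx, Submodule.map_top, Submodule.range_mkQ]
  by_cases hnk : n ≤ k
  · refine ⟨Function.extend (Fin.castLE hnk) (N.mkQ ∘ x) 0, eq_top_iff.mpr (hqx ▸ Submodule.span_mono ?_)⟩
    rintro _ ⟨i, rfl⟩
    exact ⟨Fin.castLE hnk i, (Fin.castLE_injective hnk).extend_apply _ _ _⟩
  have hJ : J (rel (R := R) x) (n - k) = Ideal.span {f} := by rw [← ideal_eq x hx, hf]
  -- some minor is a unit multiple of `f`
  obtain ⟨z, e, u, hz, hu⟩ : ∃ (z : Fin (n - k) → Fin n → R) (e : Fin (n - k) → Fin n) (u : Rˣ),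
      (∀ b, z b ∈ rel (R := R) x) ∧ minor z e = f * u := by
    by_contra hcon
    push Not at hcon
    have hle : J (rel (R := R) x) (n - k) ≤ Ideal.span {f} * IsLocalRing.maximalIdeal R := J_le_iff.mpr fun z e hz => by
      obtain ⟨c, hc⟩ := Ideal.mem_span_singleton'.mp (hJ ▸ minor_mem e hz)
      rw [show minor z e = f * c by rw [← hc, mul_comm]]
      refine Ideal.mul_mem_mul (Ideal.mem_span_singleton_self f) ?_
      by_contra hcu
      obtain ⟨v, rfl⟩ := IsLocalRing.notMem_maximalIdeal.mp hcu
      exact hcon z e v hz (by rw [← hc, mul_comm])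
    have hfm : f ∈ Ideal.span {f} * IsLocalRing.maximalIdeal R := hle (hJ ▸ Ideal.mem_span_singleton_self f)
    obtain ⟨c, hc, hfc⟩ := Ideal.mem_span_singleton_mul.mp hfm
    have : IsUnit (1 - c) := (IsLocalRing.isUnit_or_isUnit_one_sub_self c).resolve_left hc
    exact hf0 (this.mul_left_eq_zero.mp (by rw [mul_sub, mul_one, hfc, sub_self]))
  have he : Function.Injective e := by
    by_contra he
    rw [minor_eq_zero_of_not_injective z he, eq_comm] at hu
    exact hf0 (u.isUnit.mul_left_eq_zero.mp hu)
  let A : Matrix (Fin (n - k)) (Fin (n - k)) R := Matrix.of fun a b => z b (e a)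
  let T := Submodule.span R (Set.range fun j : {j : Fin n // j ∉ Set.range e} => N.mkQ (x j))
  have hT : ∀ a, N.mkQ (x (e a)) ∈ T := fun a₀ => by
    -- Cramer: replace the row `a₀` by any coordinate
    let D : Fin n → R := fun i => minor z (Function.update e a₀ i)
    have hD : ∀ i, D i = ∑ b, z b i * A.adjugate b a₀ := fun i => by
      have h1 : (Matrix.of fun a b => z b (Function.update e a₀ i a)) = A.updateRow a₀ fun b => z b i := by
        ext a b
        by_cases h : a = a₀ <;> simp [A, h, Matrix.updateRow_apply]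
      show Matrix.det _ = _
      rw [h1, ← Matrix.cramer_transpose_apply, Matrix.cramer_eq_adjugate_mulVec, ← Matrix.adjugate_transpose]
      simp [Matrix.mulVec, dotProduct, mul_comm]
    have hsum : ∑ i, D i • x i = 0 := by
      simp_rw [hD, Finset.sum_smul]
      rw [Finset.sum_comm]
      refine Finset.sum_eq_zero fun b _ => ?_
      simp_rw [mul_comm (z b _), mul_smul]
      rw [← Finset.smul_sum, show ∑ i, z b i • x i = 0 from hz b, smul_zero]
    have hDe : ∀ a, a ≠ a₀ → D (e a) = 0 := fun a ha => minor_eq_zero_of_not_injective z fun hinj =>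
      ha (hinj (by simp [ha]))
    have hD0 : D (e a₀) = f * u := by simp only [D, Function.update_eq_self, hu]
    have hmem : ∀ i, ∃ c, c * f = D i := fun i => Ideal.mem_span_singleton'.mp (hJ ▸ minor_mem _ hz)
    choose c hc using hmem
    let c' : Fin n → R := fun i => if i = e a₀ then (u : R) else if i ∈ Set.range e then 0 else c i
    have hc' : ∀ i, f * c' i = D i := fun i => by
      simp only [c']
      split_ifs with h1 h2
      · rw [h1, hD0]
      · obtain ⟨a, rfl⟩ := h2
        rw [mul_zero, hDe a fun h => h1 (h ▸ rfl)]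
      · rw [mul_comm, hc]
    have h0 : N.mkQ (∑ i, c' i • x i) = 0 := (Submodule.Quotient.mk_eq_zero N).mpr ((hN _).mpr (by
      rw [Finset.smul_sum]; simp_rw [← mul_smul, hc']; exact hsum))
    rw [map_sum, ← Finset.add_sum_erase _ _ (Finset.mem_univ (e a₀)), map_smul,
      show c' (e a₀) = (u : R) by simp [c'], add_eq_zero_iff_eq_neg] at h0
    rw [← T.smul_mem_iff_of_isUnit u.isUnit, h0]
    refine neg_mem (sum_mem fun i hi => ?_)
    rw [map_smul]
    by_cases h2 : i ∈ Set.range e
    · rw [show c' i = 0 by simp only [c']; rw [if_neg (Finset.mem_erase.mp hi).1, if_pos h2], zero_smul]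
      exact zero_mem _
    · exact T.smul_mem _ (Submodule.subset_span ⟨⟨i, h2⟩, rfl⟩)
  have hcard : Fintype.card {j : Fin n // j ∉ Set.range e} = k := by
    rw [Fintype.card_subtype_compl, Fintype.card_fin]
    have hr : Fintype.card {j // j ∈ Set.range e} = n - k := (Set.card_range_of_injective he).trans (Fintype.card_fin _)
    omega
  refine ⟨(fun j : {j : Fin n // j ∉ Set.range e} => N.mkQ (x j)) ∘ (Fintype.equivFinOfCardEq hcard).symm, ?_⟩
  rw [EquivLike.range_comp]
  refine eq_top_iff.mpr (hqx ▸ Submodule.span_le.mpr ?_)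
  rintro _ ⟨i, rfl⟩
  by_cases h : i ∈ Set.range e
  · obtain ⟨a, rfl⟩ := h
    exact hT a
  · exact Submodule.subset_span ⟨⟨i, h⟩, rfl⟩

end FittLib

end
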