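import Groth.Agent.FittLib.Comap
import Groth.Agent.UnrStalkLib.Omega
import Groth.Agent.OmegaAffLib.Apps
import Groth.Agent.OmegaAffLib.DiffCompat

/-!
# Fitting ideals of the sheaf of differentials
-/

set_option autoImplicit false
set_option linter.style.haveILetI false
universe u
open CategoryTheory CategoryTheory.Limits AlgebraicGeometry TopologicalSpace Opposite

noncomputable section

namespace FittLib

/-- Fitting ideal sheaves only depend on the isomorphism class. -/
theorem sheafIdeal_congr {X : Scheme.{u}} {F G : X.Modules} (e : F ≅ G) [Coh.IsQCoh F] [Coh.IsQCoh G]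
    (hF : CohB1.IsFT F) (hG : CohB1.IsFT G) (i : ℕ) : Fitt.sheafIdeal F i = Fitt.sheafIdeal G i := by
  refine Scheme.IdealSheafData.ext (funext fun U => ?_)
  rw [sheafIdeal_ideal F hF i U, sheafIdeal_ideal G hG i U]
  haveI := QCohLib.finite_of_isFT hF U.2
  exact ideal_congr
    { toFun := fun s => e.hom.app U.1 s
      map_add' := fun a b => map_add (e.hom.app U.1).hom a b
      map_smul' := fun r s => QCohLib.app_smul e.hom U.1 r s
      invFun := fun s => e.inv.app U.1 s
      left_inv := fun s => congrArg (fun ψ : F ⟶ F => ψ.app U.1 s) e.hom_inv_id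
      right_inv := fun s => congrArg (fun ψ : G ⟶ G => ψ.app U.1 s) e.inv_hom_id } i

variable {X S : Scheme.{u}} (f : X ⟶ S) [LocallyOfFiniteType f] [QuasiSeparated f]

theorem isQCoh_omega : Coh.IsQCoh (Omega.sheaf f) :=
  OmegaAffLib.isQCoh_of_isUniversal (OmegaAffLib.isUniversal_dOmega (f := f))

theorem isFT_omega : CohB1.IsFT (Omega.sheaf f) :=
  OmegaAffLib.isFT_of_isUniversal (OmegaAffLib.isUniversal_dOmega (f := f))

/-- The zeroth Fitting ideal of the differentials cuts out the ramified locus. -/
theorem mem_support_omega_zero (x : X) :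
    x ∈ (Fitt.sheafIdeal (Omega.sheaf f) 0).support ↔
      ¬ ∃ U : X.Opens, x ∈ U ∧ FormallyUnramified (U.ι ≫ f) := by
  haveI := isQCoh_omega f
  rw [mem_support_zero_iff _ (isFT_omega f) x]
  exact not_congr (UnrStalkLib.subsingleton_stalk_iff_mem_locus (OmegaAffLib.isUniversal_dOmega (f := f)) x)

/-- The Fitting ideals of the differentials commute with base change. -/
theorem omega_comap {S' : Scheme.{u}} (g : S' ⟶ S) (i : ℕ) :
    (Fitt.sheafIdeal (Omega.sheaf f) i).comap (pullback.fst f g) =
      Fitt.sheafIdeal (Omega.sheaf (pullback.snd f g)) i := by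
  haveI := isQCoh_omega f
  haveI : LocallyOfFiniteType (pullback.snd f g) := MorphismProperty.pullback_snd _ _ inferInstance
  haveI : QuasiSeparated (pullback.snd f g) := MorphismProperty.pullback_snd _ _ inferInstance
  haveI := isQCoh_omega (pullback.snd f g)
  haveI : Coh.IsQCoh ((Scheme.Modules.pullback (pullback.fst f g)).obj (Omega.sheaf f)) :=
    KFlatLib.isQCoh_pullback _ _
  have hd := OmegaAffLib.isUniversal_dOmega (f := f)
  have hd' := OmegaAffLib.isUniversal_dOmega (f := pullback.snd f g)
  have hsq := IsPullback.of_hasPullback f g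
  obtain ⟨c, hc, -⟩ := OmegaAffLib.existsUnique_diffCompat hsq.w.symm (OmegaSh.dOmega f) hd
    (OmegaSh.dOmega (pullback.snd f g))
  haveI := OmegaAffLib.isIso_of_isPullback hsq hd hd' hc
  rw [sheafIdeal_comap _ _ (isFT_omega f) i]
  refine sheafIdeal_congr (asIso c) ?_ (isFT_omega _) i
  refine QCohLib.isFT_of_finite fun x => ?_
  obtain ⟨W, U, hxW, e⟩ := exists_charts (pullback.fst f g) x
  exact ⟨W.1, W.2, hxW, (finite_and_ideal_pullback _ _ (isFT_omega f) U.2 W.2 e i).1⟩

end FittLib

end
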