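import Groth.Agent.FittLib.Props

/-!
# Fitting ideals, base change and numbers of generators
-/

set_option autoImplicit false
universe u v w
open Matrix TensorProduct

noncomputable section

namespace FittLib

variable {R : Type u} [CommRing R] {M : Type v} [AddCommGroup M] [Module R M]

section BaseChange

variable {S : Type w} [CommRing S] [Algebra R S]

theorem rel_baseChange {ι : Type*} [Fintype ι] [DecidableEq ι] (x : ι → M) (hx : Submodule.span R (Set.range x) = ⊤) :
    rel (R := S) (fun i => (1 : S) ⊗ₜ[R] x i) ⊆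
      (Submodule.span S ((fun z : ι → R => fun i => algebraMap R S (z i)) '' rel x) : Set (ι → S)) := by
  intro z hz
  let π := Fintype.linearCombination R x
  let q := TensorProduct.piScalarRight R S S ι
  have hq : ∀ w : S ⊗[R] (ι → R), π.lTensor S w = ∑ i, q w i • (1 : S) ⊗ₜ[R] x i := fun w => by
    induction w using TensorProduct.induction_on with
    | zero => simp
    | tmul c u =>
      rw [LinearMap.lTensor_tmul, Fintype.linearCombination_apply, TensorProduct.tmul_sum]
      refine Finset.sum_congr rfl fun i _ => ?_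
      simp [q, TensorProduct.smul_tmul', TensorProduct.tmul_smul, Algebra.smul_def, mul_comm]
    | add a b ha hb => simp [map_add, ha, hb, add_smul, Finset.sum_add_distrib]
  have hex : Function.Exact ((LinearMap.ker π).subtype.lTensor S) (π.lTensor S) :=
    lTensor_exact S (LinearMap.exact_subtype_ker_map π) (linearCombination_surjective hx)
  have hw : π.lTensor S (q.symm z) = 0 := by rw [hq, LinearEquiv.apply_symm_apply]; exact hz
  obtain ⟨v, hv⟩ := (hex _).mp hw
  rw [← q.apply_symm_apply z, ← hv]
  clear hv hw hz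
  induction v using TensorProduct.induction_on with
  | zero => simp
  | tmul c u =>
    have : q ((LinearMap.ker π).subtype.lTensor S (c ⊗ₜ u)) = c • fun i => algebraMap R S ((u : ι → R) i) := by
      ext i
      simp [q, Algebra.smul_def, mul_comm]
    rw [this]
    refine Submodule.smul_mem _ _ (Submodule.subset_span ⟨u, ?_, rfl⟩)
    rw [rel_eq_ker]
    exact u.2
  | add a b ha hb => rw [map_add, map_add]; exact add_mem ha hb

variable [Module.Finite R M]

theorem ideal_tensor (k : ℕ) : Fitt.ideal S (S ⊗[R] M) k = (Fitt.ideal R M k).map (algebraMap R S) := by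
  classical
  obtain ⟨n, x, hx⟩ := exists_gen (R := R) M
  have hx' : Submodule.span S (Set.range fun i => (1 : S) ⊗ₜ[R] x i) = ⊤ := by
    rw [show Set.range (fun i => (1 : S) ⊗ₜ[R] x i) = TensorProduct.mk R S M 1 '' Set.range x by
      rw [← Set.range_comp]; rfl, ← Submodule.baseChange_span, hx, Submodule.baseChange_top]
  rw [ideal_eq _ hx', ideal_eq x hx]
  refine le_antisymm (((J_mono (rel_baseChange x hx) _).trans (J_span _ _).le).trans (J_le_iff.mpr fun z e hz => ?_)) ?_
  · choose z₀ hz₀ hzz using hz
    obtain rfl : (fun b i => algebraMap R S (z₀ b i)) = z := funext hzz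
    rw [show minor (fun b i => algebraMap R S (z₀ b i)) e = algebraMap R S (minor z₀ e) from
      ((algebraMap R S).map_det (Matrix.of fun a b => z₀ b (e a))).symm]
    exact Ideal.mem_map_of_mem _ (minor_mem e hz₀)
  · rw [J, Ideal.map_span, Ideal.span_le]
    rintro _ ⟨_, ⟨z, e, hz, rfl⟩, rfl⟩
    rw [show algebraMap R S (minor z e) = minor (fun b i => algebraMap R S (z b i)) e from
      (algebraMap R S).map_det (Matrix.of fun a b => z b (e a))]
    refine minor_mem e fun b => ?_
    show ∑ i, algebraMap R S (z b i) • ((1 : S) ⊗ₜ[R] x i) = 0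
    simp_rw [algebraMap_smul, ← TensorProduct.tmul_smul, ← TensorProduct.tmul_sum]
    rw [show ∑ i, z b i • x i = 0 from hz b, TensorProduct.tmul_zero]

theorem ideal_isBaseChange {N : Type*} [AddCommGroup N] [Module R N] [Module S N] [IsScalarTower R S N]
    {f : M →ₗ[R] N} (hf : IsBaseChange S f) (k : ℕ) :
    Fitt.ideal S N k = (Fitt.ideal R M k).map (algebraMap R S) := by
  rw [← ideal_tensor (S := S) k]
  exact (ideal_congr hf.equiv k).symm

end BaseChange

variable [Module.Finite R M]

theorem ideal_localized (S : Submonoid R) (k : ℕ) :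
    Fitt.ideal (Localization S) (LocalizedModule S M) k = (Fitt.ideal R M k).map (algebraMap R (Localization S)) :=
  ideal_isBaseChange ((isLocalizedModule_iff_isBaseChange S (Localization S) (LocalizedModule.mkLinearMap S M)).mp
    inferInstance) k

theorem finrank_fibre_le_iff (p : Ideal R) [p.IsPrime] (k : ℕ) :
    ¬ Fitt.ideal R M k ≤ p ↔ Module.finrank p.ResidueField (p.ResidueField ⊗[R] M) ≤ k := by
  have h1 := ideal_tensor (R := R) (M := M) (S := p.ResidueField) k
  rw [ideal_of_basis (Module.finBasis p.ResidueField (p.ResidueField ⊗[R] M)) k, Fintype.card_fin] at h1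
  have h2 : Fitt.ideal R M k ≤ p ↔ (Fitt.ideal R M k).map (algebraMap R p.ResidueField) = ⊥ := by
    rw [Ideal.map_eq_bot_iff_le_ker, Ideal.ker_algebraMap_residueField]
  rw [h2, ← h1]
  split_ifs with h <;> simp [h]

theorem exists_smul_mem_span {p : Ideal R} [p.IsPrime] {k : ℕ} (h : ¬ Fitt.ideal R M k ≤ p) :
    ∃ f : R, f ∉ p ∧ ∃ g : Fin k → M, ∀ m : M, f • m ∈ Submodule.span R (Set.range g) := by
  classical
  have hd := (finrank_fibre_le_iff p k).mp h
  obtain ⟨n, x, hx⟩ := exists_gen (R := R) M
  let κ := p.ResidueField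
  have hspan : Submodule.span κ (Set.range fun i => (1 : κ) ⊗ₜ[R] x i) = ⊤ := by
    rw [show Set.range (fun i => (1 : κ) ⊗ₜ[R] x i) = TensorProduct.mk R κ M 1 '' Set.range x by
      rw [← Set.range_comp]; rfl, ← Submodule.baseChange_span, hx, Submodule.baseChange_top]
  obtain ⟨b, hbsub, hbspan, hbind⟩ := exists_linearIndependent κ (Set.range fun i => (1 : κ) ⊗ₜ[R] x i)
  have hbfin : b.Finite := (Set.finite_range _).subset hbsub
  haveI := hbfin.fintype
  have hcard : Fintype.card b ≤ k := le_trans (hbind.fintype_card_le_finrank) hd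
  choose i hi using fun y : b => hbsub y.2
  obtain ⟨ι⟩ : Nonempty (b ↪ Fin k) := Function.Embedding.nonempty_of_card_le (by simpa using hcard)
  let g : Fin k → M := Function.extend ι (fun y => x (i y)) 0
  let N := Submodule.span R (Set.range g)
  haveI : Module.Finite R (M ⧸ N) := inferInstance
  have h0 : ¬ Fitt.ideal R (M ⧸ N) 0 ≤ p := by
    rw [finrank_fibre_le_iff, Nat.le_zero]
    have hle : (⊤ : Submodule κ (κ ⊗[R] M)) ≤ LinearMap.ker (N.mkQ.baseChange κ) := by
      rw [← hspan, ← hbspan, Submodule.span_le]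
      intro y hy
      show (N.mkQ.baseChange κ) y = 0
      refine (congrArg (N.mkQ.baseChange κ) (hi ⟨y, hy⟩).symm).trans ?_
      rw [LinearMap.baseChange_tmul, show N.mkQ (x (i ⟨y, hy⟩)) = 0 from
        (Submodule.Quotient.mk_eq_zero N).mpr (Submodule.subset_span ⟨ι ⟨y, hy⟩, ι.injective.extend_apply _ _ _⟩),
        TensorProduct.tmul_zero]
    have hsub : Subsingleton (κ ⊗[R] (M ⧸ N)) := subsingleton_of_forall_eq 0 fun y => by
      induction y using TensorProduct.induction_on with
      | zero => rfl
      | tmul c q =>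
        obtain ⟨m, rfl⟩ := N.mkQ_surjective q
        exact hle (Submodule.mem_top (x := c ⊗ₜ[R] m))
      | add a c ha hc => rw [ha, hc, add_zero]
    exact Module.finrank_zero_of_subsingleton
  obtain ⟨f, hf, hfp⟩ := SetLike.not_le_iff_exists.mp h0
  refine ⟨f, hfp, g, fun m => ?_⟩
  rw [← Submodule.Quotient.mk_eq_zero, Submodule.Quotient.mk_smul]
  exact Module.mem_annihilator.mp (ideal_le_annihilator hf) _

theorem exists_gen_localized (S : Submonoid R) {f : R} (hf : f ∈ S) {k : ℕ} (g : Fin k → M)
    (hg : ∀ m : M, f • m ∈ Submodule.span R (Set.range g)) :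
    Submodule.span (Localization S) (Set.range fun i => LocalizedModule.mkLinearMap S M (g i)) = ⊤ := by
  let φ := LocalizedModule.mkLinearMap S M
  refine Submodule.eq_top_iff'.mpr fun y => ?_
  obtain ⟨⟨m, s⟩, hs⟩ := IsLocalizedModule.surj S φ y
  have hm : φ (f • m) ∈ Submodule.span (Localization S) (Set.range fun i => φ (g i)) := by
    have h := Submodule.mem_map_of_mem (f := φ) (hg m)
    rw [Submodule.map_span, ← Set.range_comp] at h
    exact Submodule.span_le_restrictScalars R (Localization S) _ h
  rw [map_smul, ← hs, Submonoid.smul_def, ← mul_smul, ← algebraMap_smul (Localization S) (f * (s : R)) y] at hm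
  exact (Submodule.smul_mem_iff_of_isUnit _
    (IsLocalization.map_units (Localization S) (⟨f * s, mul_mem hf s.2⟩ : S))).mp hm

theorem not_le_of_gen_localized (S : Submonoid R) {p : Ideal R} [p.IsPrime] (hS : ∀ s ∈ S, s ∉ p) {k : ℕ}
    (g : Fin k → LocalizedModule S M) (hg : Submodule.span (Localization S) (Set.range g) = ⊤) :
    ¬ Fitt.ideal R M k ≤ p := by
  intro hle
  have h1 := ideal_localized (M := M) S k
  rw [ideal_top_of_gen g hg le_rfl] at h1
  exact (IsLocalization.map_algebraMap_ne_top_iff_disjoint S (Localization S) _).mpr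
    (Set.disjoint_left.mpr fun s hs hsI => hS s hs (hle hsI)) h1.symm

theorem not_le_iff_gen_prime (p : Ideal R) [p.IsPrime] (k : ℕ) :
    ¬ Fitt.ideal R M k ≤ p ↔
      ∃ g : Fin k → LocalizedModule p.primeCompl M, Submodule.span (Localization.AtPrime p) (Set.range g) = ⊤ := by
  refine ⟨fun h => ?_, fun ⟨g, hg⟩ => not_le_of_gen_localized p.primeCompl (fun s hs => hs) g hg⟩
  obtain ⟨f, hf, g, hg⟩ := exists_smul_mem_span h
  exact ⟨_, exists_gen_localized p.primeCompl hf g hg⟩

theorem not_le_iff_gen_away (p : Ideal R) [p.IsPrime] (k : ℕ) :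
    ¬ Fitt.ideal R M k ≤ p ↔ ∃ f : R, f ∉ p ∧
      ∃ g : Fin k → LocalizedModule (Submonoid.powers f) M,
        Submodule.span (Localization.Away f) (Set.range g) = ⊤ := by
  refine ⟨fun h => ?_, fun ⟨f, hf, g, hg⟩ => not_le_of_gen_localized (Submonoid.powers f) ?_ g hg⟩
  · obtain ⟨f, hf, g, hg⟩ := exists_smul_mem_span h
    exact ⟨f, hf, _, exists_gen_localized _ (Submonoid.mem_powers f) g hg⟩
  · rintro _ ⟨m, rfl⟩ hm
    exact hf (Ideal.IsPrime.mem_of_pow_mem ‹_› m hm)

theorem zeroLocus_ideal_zero : PrimeSpectrum.zeroLocus (Fitt.ideal R M 0 : Set R) = Module.support R M := by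
  ext p
  rw [PrimeSpectrum.mem_zeroLocus, Module.mem_support_iff, SetLike.coe_subset_coe, ← not_iff_not,
    not_le_iff_gen_prime p.asIdeal 0, not_nontrivial_iff_subsingleton]
  constructor
  · rintro ⟨g, hg⟩
    rw [Set.range_eq_empty g, Submodule.span_empty] at hg
    exact (Submodule.subsingleton_iff _).mp (subsingleton_of_bot_eq_top hg)
  · intro h
    exact ⟨Fin.elim0, Subsingleton.elim _ _⟩

end FittLib

end
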