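import Groth.Agent.FittLib.LocFree
import Groth.Agent.FlatnLib.Basic
import Groth.Agent.FlatLib.QStalk
import Groth.Agent.QCohLib.AffineFinite
import Groth.Agent.RichLib.IsFPAffine
import Groth.Prelude.Def_BlowUp2
import Groth.Prelude.Def_CohB1

/-!
# The Fitting ideal sheaves of a quasi-coherent module of finite type
-/

set_option autoImplicit false
set_option linter.style.haveILetI false
universe u
open CategoryTheory CategoryTheory.Limits AlgebraicGeometry TopologicalSpace Opposite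

noncomputable section

namespace FittLib

variable {X : Scheme.{u}} (F : X.Modules) [Coh.IsQCoh F]

/-- The restriction of sections to a basic open. -/
def resLin {U : X.Opens} (g : Γ(X, U)) :
    letI := Module.compHom Γ(F, X.basicOpen g) (X.presheaf.map (homOfLE (X.basicOpen_le g)).op).hom
    Γ(F, U) →ₗ[Γ(X, U)] Γ(F, X.basicOpen g) :=
  letI := Module.compHom Γ(F, X.basicOpen g) (X.presheaf.map (homOfLE (X.basicOpen_le g)).op).hom
  { toFun := F.presheaf.map (homOfLE (X.basicOpen_le g)).op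
    map_add' := map_add _
    map_smul' := fun r m => Scheme.Modules.map_smul F _ r m }

/-- Fitting ideals restrict to basic opens. -/
theorem ideal_basicOpen (hft : CohB1.IsFT F) {U : X.Opens} (hU : IsAffineOpen U) (g : Γ(X, U)) (r : ℕ) :
    Fitt.ideal Γ(X, X.basicOpen g) Γ(F, X.basicOpen g) r =
      (Fitt.ideal Γ(X, U) Γ(F, U) r).map (X.presheaf.map (homOfLE (X.basicOpen_le g)).op).hom := by
  let res := (X.presheaf.map (homOfLE (X.basicOpen_le g)).op).hom
  let : Algebra Γ(X, U) Γ(X, X.basicOpen g) := res.toAlgebra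
  let := Module.compHom Γ(F, X.basicOpen g) res
  have : IsScalarTower Γ(X, U) Γ(X, X.basicOpen g) Γ(F, X.basicOpen g) :=
    IsScalarTower.of_algebraMap_smul fun _ _ => rfl
  haveI := QCohLib.finite_of_isFT hft hU
  haveI := hU.isLocalization_basicOpen g
  haveI := FlatnLib.isLocalizedModule_res F hU g (fun _ _ => rfl) (resLin F g) (fun _ => rfl)
  exact ideal_isBaseChange
    ((isLocalizedModule_iff_isBaseChange (Submonoid.powers g) Γ(X, X.basicOpen g) (resLin F g)).mp
      inferInstance) r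

/-- The Fitting ideals on affine opens, as an ideal sheaf. -/
def idealData (hft : CohB1.IsFT F) (r : ℕ) : X.IdealSheafData where
  ideal U := Fitt.ideal Γ(X, U.1) Γ(F, U.1) r
  map_ideal_basicOpen U f := (ideal_basicOpen F hft U.2 f r).symm

/-- The affine values of the Fitting ideal sheaf. -/
theorem sheafIdeal_ideal (hft : CohB1.IsFT F) (r : ℕ) (U : X.affineOpens) :
    (Fitt.sheafIdeal F r).ideal U = Fitt.ideal Γ(X, U.1) Γ(F, U.1) r :=
  congrArg (fun I : X.IdealSheafData => I.ideal U)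
    (Scheme.IdealSheafData.ofIdeals_ideal (idealData F hft r))

theorem sheafIdeal_eq_bot_iff (hft : CohB1.IsFT F) (r : ℕ) :
    Fitt.sheafIdeal F r = ⊥ ↔ ∀ U : X.affineOpens, Fitt.ideal Γ(X, U.1) Γ(F, U.1) r = ⊥ := by
  refine ⟨fun h U => ?_, fun h => Scheme.IdealSheafData.ext (funext fun U => ?_)⟩
  · rw [← sheafIdeal_ideal F hft r U, h]
    rfl
  · rw [sheafIdeal_ideal F hft r U, h U]
    rfl

theorem sheafIdeal_eq_top_iff (hft : CohB1.IsFT F) (r : ℕ) :
    Fitt.sheafIdeal F r = ⊤ ↔ ∀ U : X.affineOpens, Fitt.ideal Γ(X, U.1) Γ(F, U.1) r = ⊤ := by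
  refine ⟨fun h U => ?_, fun h => Scheme.IdealSheafData.ext (funext fun U => ?_)⟩
  · rw [← sheafIdeal_ideal F hft r U, h]
    rfl
  · rw [sheafIdeal_ideal F hft r U, h U]
    rfl

/-- The closed set of a Fitting ideal sheaf, on an affine chart. -/
theorem mem_support_iff (hft : CohB1.IsFT F) (r : ℕ) {U : X.Opens} (hU : IsAffineOpen U) {x : X} (hx : x ∈ U) :
    x ∈ (Fitt.sheafIdeal F r).support ↔
      Fitt.ideal Γ(X, U) Γ(F, U) r ≤ (hU.primeIdealOf ⟨x, hx⟩).asIdeal := by
  rw [Scheme.IdealSheafData.mem_support_iff_of_mem (U := ⟨U, hU⟩) hx, sheafIdeal_ideal F hft r ⟨U, hU⟩,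
    Scheme.mem_zeroLocus_iff]
  have key : ∀ a : Γ(X, U), x ∈ X.basicOpen a ↔ a ∉ (hU.primeIdealOf ⟨x, hx⟩).asIdeal := by
    intro a
    have hloc := hU.isLocalization_stalk ⟨x, hx⟩
    letI : Algebra Γ(X, U) (X.presheaf.stalk x) := (X.presheaf.germ U x hx).hom.toAlgebra
    exact (X.mem_basicOpen a x hx).trans (IsLocalization.AtPrime.isUnit_to_map_iff (X.presheaf.stalk x) _ a)
  exact ⟨fun h a ha => not_not.mp fun ha' => h a ha ((key a).mpr ha'), fun h a ha hxa => (key a).mp hxa (h ha)⟩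

/-- Finitely presented modules have finitely presented sections on affine opens. -/
theorem finitePresentation_affine (hF : CohB1.IsFP F) {U : X.Opens} (hU : IsAffineOpen U) :
    Module.FinitePresentation Γ(X, U) Γ(F, U) := by
  have h1 : ∀ p : U, ∃ g : Γ(X, U), (p : X) ∈ X.basicOpen g ∧
      Module.FinitePresentation Γ(X, X.basicOpen g) Γ(F, X.basicOpen g) := by
    intro p
    obtain ⟨O, P, hpO, hP⟩ := FlatLib.exists_presentation_nhd hF p
    haveI := hP
    obtain ⟨g, hgO, hpg⟩ := QCohLib.exists_basicOpen_nhd hU hpO p.2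
    exact ⟨g, hpg, RichLib.IsFPAffine.finitePresentation_of_le P (hU.basicOpen g) hgO⟩
  choose g hg hfp using h1
  let s : Set Γ(X, U) := Set.range g
  have hs : Ideal.span s = ⊤ := by
    rw [← hU.iSup_basicOpen_eq_self_iff]
    refine le_antisymm (iSup_le fun i => X.basicOpen_le i.1) fun p hp => ?_
    exact Opens.mem_iSup.mpr ⟨⟨g ⟨p, hp⟩, ⟨p, hp⟩, rfl⟩, hg ⟨p, hp⟩⟩
  letI alg : ∀ i : s, Algebra Γ(X, U) Γ(X, X.basicOpen i.1) :=
    fun i => (X.presheaf.map (homOfLE (X.basicOpen_le i.1)).op).hom.toAlgebra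
  letI mod : ∀ i : s, Module Γ(X, U) Γ(F, X.basicOpen i.1) :=
    fun i => Module.compHom _ (X.presheaf.map (homOfLE (X.basicOpen_le i.1)).op).hom
  haveI : ∀ i : s, IsScalarTower Γ(X, U) Γ(X, X.basicOpen i.1) Γ(F, X.basicOpen i.1) :=
    fun i => IsScalarTower.of_algebraMap_smul fun _ _ => rfl
  haveI : ∀ i : s, IsLocalization.Away i.1 Γ(X, X.basicOpen i.1) := fun i => hU.isLocalization_basicOpen i.1
  haveI : ∀ i : s, IsLocalizedModule (Submonoid.powers i.1) (resLin F i.1) :=
    fun i => FlatnLib.isLocalizedModule_res F hU i.1 (fun _ _ => rfl) _ (fun _ => rfl)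
  refine Module.FinitePresentation.of_localizationSpan' s hs (Rₚ := fun i : s => Γ(X, X.basicOpen i.1))
    (fun i => resLin F i.1) ?_
  rintro ⟨_, p, rfl⟩
  exact hfp p

end FittLib

end

namespace FittLib

variable {X : Scheme.{u}} (F : X.Modules) [Coh.IsQCoh F]

/-- The zeroth Fitting ideal cuts out the support. -/
theorem mem_support_zero_iff (hft : CohB1.IsFT F) (x : X) :
    x ∈ (Fitt.sheafIdeal F 0).support ↔ x ∈ CohB1.support F := by
  obtain ⟨_, ⟨U, hU, rfl⟩, hx, -⟩ := X.isBasis_affineOpens.exists_subset_of_mem_open (Set.mem_univ x) isOpen_univ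
  rw [mem_support_iff F hft 0 hU hx]
  haveI := QCohLib.finite_of_isFT hft hU
  let := Module.compHom (F.presheaf.stalk x) (X.presheaf.germ U x hx).hom
  haveI := FlatLib.isLocalizedModule_germLin F hU hx
  refine Iff.trans ?_ (not_congr (IsLocalizedModule.iso (hU.primeIdealOf ⟨x, hx⟩).asIdeal.primeCompl
    (FlatLib.germLin F hx)).toEquiv.subsingleton_congr)
  rw [not_subsingleton_iff_nontrivial, ← Module.mem_support_iff, ← zeroLocus_ideal_zero,
    PrimeSpectrum.mem_zeroLocus, SetLike.coe_subset_coe]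

/-- The closed sets of all Fitting ideals have empty intersection. -/
theorem exists_not_mem_support (hft : CohB1.IsFT F) (x : X) : ∃ r : ℕ, x ∉ (Fitt.sheafIdeal F r).support := by
  obtain ⟨_, ⟨U, hU, rfl⟩, hx, -⟩ := X.isBasis_affineOpens.exists_subset_of_mem_open (Set.mem_univ x) isOpen_univ
  haveI := QCohLib.finite_of_isFT hft hU
  obtain ⟨n, g, hg⟩ := exists_gen (R := Γ(X, U)) Γ(F, U)
  refine ⟨n, fun h => ?_⟩
  rw [mem_support_iff F hft n hU hx, ideal_top_of_gen g hg le_rfl, top_le_iff] at h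
  exact (hU.primeIdealOf ⟨x, hx⟩).2.ne_top h

end FittLib
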