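import Groth.Agent.FittLib.Ideal

/-!
# Properties of Fitting ideals
-/

set_option autoImplicit false
universe u v w
open Matrix TensorProduct

noncomputable section

namespace FittLib

variable {R : Type u} [CommRing R] {M : Type v} [AddCommGroup M] [Module R M]

theorem rel_eq_ker {ι : Type w} [Fintype ι] (x : ι → M) :
    rel (R := R) x = (LinearMap.ker (Fintype.linearCombination R x) : Set (ι → R)) := by
  ext z
  simp [rel, Fintype.linearCombination_apply]

theorem linearCombination_surjective {ι : Type w} [Fintype ι] {x : ι → M} (hx : Submodule.span R (Set.range x) = ⊤) :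
    Function.Surjective (Fintype.linearCombination R x) := by
  rw [← LinearMap.range_eq_top, Fintype.range_linearCombination, hx]

theorem exists_gen (M : Type v) [AddCommGroup M] [Module R M] [Module.Finite R M] :
    ∃ (n : ℕ) (x : Fin n → M), Submodule.span R (Set.range x) = ⊤ :=
  Module.Finite.exists_fin

theorem ideal_top_of_gen {n k : ℕ} (x : Fin n → M) (hx : Submodule.span R (Set.range x) = ⊤) (hk : n ≤ k) :
    Fitt.ideal R M k = ⊤ := by
  rw [ideal_eq x hx, show n - k = 0 by omega, J_zero]

theorem ideal_monotone [Module.Finite R M] {k l : ℕ} (h : k ≤ l) : Fitt.ideal R M k ≤ Fitt.ideal R M l := by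
  obtain ⟨n, x, hx⟩ := exists_gen (R := R) M
  rw [ideal_eq x hx, ideal_eq x hx]
  exact J_antitone _ (by omega)

theorem ideal_le_of_surjective [Module.Finite R M] {M' : Type*} [AddCommGroup M'] [Module R M'] (f : M →ₗ[R] M')
    (hf : Function.Surjective f) (k : ℕ) : Fitt.ideal R M k ≤ Fitt.ideal R M' k := by
  obtain ⟨n, x, hx⟩ := exists_gen (R := R) M
  have hx' : Submodule.span R (Set.range (f ∘ x)) = ⊤ := by
    rw [Set.range_comp, ← Submodule.map_span, hx, Submodule.map_top, LinearMap.range_eq_top.mpr hf]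
  rw [ideal_eq x hx, ideal_eq _ hx']
  refine J_mono (fun z hz => ?_) _
  show ∑ i, z i • f (x i) = 0
  rw [show ∑ i, z i • f (x i) = f (∑ i, z i • x i) by simp, show ∑ i, z i • x i = 0 from hz, map_zero]

theorem J_fg {ι : Type w} [Finite ι] {G : Set (ι → R)} (hG : G.Finite) (m : ℕ) : (J G m).FG := by
  haveI := hG.to_subtype
  refine Submodule.fg_span ((Set.finite_range fun p : (Fin m → G) × (Fin m → ι) =>
    minor (fun b => (p.1 b : ι → R)) p.2).subset ?_)
  rintro d ⟨z, e, hz, rfl⟩
  exact ⟨(fun b => ⟨z b, hz b⟩, e), rfl⟩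

theorem ideal_fg [Module.FinitePresentation R M] (k : ℕ) : (Fitt.ideal R M k).FG := by
  classical
  obtain ⟨n, x, hx⟩ := exists_gen (R := R) M
  obtain ⟨G, hG⟩ := Module.FinitePresentation.fg_ker (Fintype.linearCombination R x) (linearCombination_surjective hx)
  rw [ideal_eq x hx, rel_eq_ker, ← hG, J_span]
  exact J_fg G.finite_toSet _

theorem ideal_le_annihilator [Module.Finite R M] : Fitt.ideal R M 0 ≤ Module.annihilator R M := by
  classical
  obtain ⟨n, x, hx⟩ := exists_gen (R := R) M
  rw [ideal_eq x hx, Nat.sub_zero]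
  refine J_le_iff.mpr fun z e hz => ?_
  by_cases he : Function.Injective e
  swap
  · rw [minor_eq_zero_of_not_injective z he]; exact zero_mem _
  have he' : Function.Bijective e := ⟨he, Finite.injective_iff_surjective.mp he⟩
  let A : Matrix (Fin n) (Fin n) R := Matrix.of fun b a => z b (e a)
  have hA : minor z e = A.det := (Matrix.det_transpose A)
  have hrel : ∀ b, ∑ a, A b a • x (e a) = 0 := fun b => (he'.sum_comp fun i => z b i • x i).trans (hz b)
  have hkey : ∀ a, A.det • x (e a) = 0 := fun a => by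
    have h2 : ∑ c, (A.adjugate * A) a c • x (e c) = 0 := by
      simp only [Matrix.mul_apply, Finset.sum_smul, mul_smul]
      rw [Finset.sum_comm]
      simp [← Finset.smul_sum, hrel]
    rw [Matrix.adjugate_mul] at h2
    simpa [Matrix.one_apply] using h2
  rw [hA, Module.mem_annihilator]
  intro m
  have hm : m ∈ Submodule.span R (Set.range x) := hx ▸ Submodule.mem_top
  induction hm using Submodule.span_induction with
  | mem y hy =>
    obtain ⟨i, rfl⟩ := hy
    obtain ⟨a, rfl⟩ := he'.2 i
    exact hkey a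
  | zero => simp
  | add y y' _ _ hy hy' => rw [smul_add, hy, hy', add_zero]
  | smul r y _ hy => rw [smul_comm, hy, smul_zero]

theorem ideal_quotient (I : Ideal R) : Fitt.ideal R (R ⧸ I) 0 = I := by
  let x : Fin 1 → R ⧸ I := fun _ => 1
  have hx : Submodule.span R (Set.range x) = ⊤ := by
    refine Submodule.eq_top_iff'.mpr fun m => ?_
    obtain ⟨r, rfl⟩ := Ideal.Quotient.mk_surjective m
    rw [show Ideal.Quotient.mk I r = r • x 0 by simp [x, Algebra.smul_def]]
    exact Submodule.smul_mem _ _ (Submodule.subset_span ⟨0, rfl⟩)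
  have hrel : ∀ z : Fin 1 → R, z ∈ rel (R := R) x ↔ z 0 ∈ I := fun z => by
    simp [rel, x, Algebra.smul_def, Ideal.Quotient.eq_zero_iff_mem]
  rw [ideal_eq x hx]
  refine le_antisymm (J_le_iff.mpr fun z e hz => ?_) fun r hr => ?_
  · rw [minor, Matrix.det_fin_one, Matrix.of_apply, Subsingleton.elim (e 0) 0]
    exact (hrel _).mp (hz 0)
  · exact Ideal.subset_span ⟨fun _ _ => r, id, fun _ => (hrel _).mpr hr, by simp [minor]⟩

theorem ideal_of_basis {ι : Type w} [Fintype ι] (b : Module.Basis ι R M) (k : ℕ) :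
    Fitt.ideal R M k = if Fintype.card ι ≤ k then ⊤ else ⊥ := by
  rw [ideal_eq' b b.span_eq]
  split_ifs with h
  · rw [show Fintype.card ι - k = 0 by omega, J_zero]
  · refine eq_bot_iff.mpr (J_le_iff.mpr fun z e hz => ?_)
    have h0 : ∀ j i, z j i = 0 := fun j i =>
      Fintype.linearIndependent_iff.mp b.linearIndependent (z j) (hz j) i
    rw [Ideal.mem_bot, minor]
    haveI : Nonempty (Fin (Fintype.card ι - k)) := ⟨⟨0, by omega⟩⟩
    exact Matrix.det_eq_zero_of_row_eq_zero (Classical.arbitrary _) fun j => h0 j _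

theorem ideal_congr [Module.Finite R M] {M' : Type*} [AddCommGroup M'] [Module R M'] (e : M ≃ₗ[R] M') (k : ℕ) :
    Fitt.ideal R M k = Fitt.ideal R M' k := by
  haveI : Module.Finite R M' := Module.Finite.equiv e
  exact le_antisymm (ideal_le_of_surjective e.toLinearMap e.surjective k)
    (ideal_le_of_surjective e.symm.toLinearMap e.symm.surjective k)

theorem ideal_prod {M' : Type*} [AddCommGroup M'] [Module R M'] [Module.Finite R M] [Module.Finite R M'] (l : ℕ) :
    Fitt.ideal R (M × M') l = ∑ k ∈ Finset.range (l + 1), Fitt.ideal R M k * Fitt.ideal R M' (l - k) := by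
  classical
  obtain ⟨n, x, hx⟩ := exists_gen (R := R) M
  obtain ⟨n', y, hy⟩ := exists_gen (R := R) M'
  let w : Fin n ⊕ Fin n' → M × M' := Sum.elim (fun i => (x i, 0)) (fun j => (0, y j))
  have hw : Submodule.span R (Set.range w) = ⊤ := by
    rw [Set.Sum.elim_range, Submodule.span_union, show Set.range (fun i => (x i, (0 : M'))) =
      LinearMap.inl R M M' '' Set.range x by rw [← Set.range_comp]; rfl, show Set.range (fun j => ((0 : M), y j)) =
      LinearMap.inr R M M' '' Set.range y by rw [← Set.range_comp]; rfl, ← Submodule.map_span, ← Submodule.map_span,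
      hx, hy, Submodule.map_top, Submodule.map_top, LinearMap.sup_range_inl_inr]
  let G : Set (Fin n ⊕ Fin n' → R) := padL '' rel x ∪ padR '' rel y
  have hJ : ∀ m, J (rel (R := R) w) m = J G m := fun m => by
    refine le_antisymm ((J_mono (fun z hz => ?_) _).trans (J_span G _).le) (J_mono ?_ _)
    · have h0 : ∑ i, z i • w i = 0 := hz
      rw [Fintype.sum_sum_type] at h0
      have h1 := congrArg Prod.fst h0
      have h2 := congrArg Prod.snd h0
      simp [w, Prod.fst_sum, Prod.snd_sum] at h1 h2
      rw [SetLike.mem_coe, show z = padL (z ∘ Sum.inl) + padR (z ∘ Sum.inr) by ext (i | i) <;> simp [padL, padR]]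
      exact add_mem (Submodule.subset_span (Or.inl ⟨_, h1, rfl⟩)) (Submodule.subset_span (Or.inr ⟨_, h2, rfl⟩))
    · rintro _ (⟨u, hu, rfl⟩ | ⟨u, hu, rfl⟩)
      · show ∑ i, padL u i • w i = 0
        rw [Fintype.sum_sum_type]
        simp [w, padL, Prod.ext_iff, Prod.fst_sum, Prod.snd_sum, show ∑ i, u i • x i = 0 from hu]
      · show ∑ i, padR u i • w i = 0
        rw [Fintype.sum_sum_type]
        simp [w, padR, Prod.ext_iff, Prod.fst_sum, Prod.snd_sum, show ∑ i, u i • y i = 0 from hu]
  rw [ideal_eq' w hw, hJ, Fintype.card_sum, Fintype.card_fin, Fintype.card_fin]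
  simp only [ideal_eq x hx, ideal_eq y hy]
  rw [Ideal.sum_eq_sup, Finset.sup_eq_iSup]
  refine le_antisymm ((J_union_le _ _ _).trans (iSup₂_le fun p hp => ?_)) (iSup₂_le fun k hk => ?_)
  · rw [Finset.mem_range] at hp
    by_cases h1 : n < p
    · rw [J_eq_bot_of_card_lt (rel (R := R) x) (by simpa using h1), Ideal.bot_mul]; exact bot_le
    by_cases h2 : n' < n + n' - l - p
    · rw [J_eq_bot_of_card_lt (rel (R := R) y) (by simpa using h2), Ideal.mul_bot]; exact bot_le
    refine le_iSup₂_of_le (n - p) (Finset.mem_range.mpr (by omega)) (Ideal.mul_mono (J_antitone _ ?_) (J_antitone _ ?_))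
    · omega
    · omega
  · rw [Finset.mem_range] at hk
    exact (mul_le_J_union _ _ _ _).trans (J_antitone _ (by omega))

end FittLib

end
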