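import Groth.Agent.FittLib.Minors
import Groth.Prelude.Def_Fitting

/-!
# Fitting ideals of modules
-/

set_option autoImplicit false
universe u v w
open Matrix TensorProduct

noncomputable section

namespace FittLib

variable {R : Type u} [CommRing R] {M : Type v} [AddCommGroup M] [Module R M]

/-- The relations of a tuple. -/
def rel {ι : Type w} [Fintype ι] (x : ι → M) : Set (ι → R) := {z | ∑ i, z i • x i = 0}

variable (R) in
/-- The ideal of minors of the relations of a tuple. -/
def F {ι : Type w} [Fintype ι] (x : ι → M) (k : ℕ) : Ideal R := J (rel (R := R) x) (Fintype.card ι - k)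

theorem rel_map_le {ι κ : Type*} [Fintype ι] [Fintype κ] (x : ι → M) (y : κ → M) (σ : κ ≃ ι) (h : ∀ j, y j = x (σ j)) :
    (LinearMap.funLeft R R σ.symm) '' rel y ⊆ rel x := by
  rintro _ ⟨z, hz, rfl⟩
  show ∑ i, z (σ.symm i) • x i = 0
  rw [← σ.sum_comp]
  simpa [← h] using (show ∑ j, z j • y j = 0 from hz)

theorem J_rel_equiv_le {ι κ : Type*} [Fintype ι] [DecidableEq ι] [Fintype κ] (x : ι → M) (y : κ → M) (σ : κ ≃ ι)
    (h : ∀ j, y j = x (σ j)) (m : ℕ) : J (rel (R := R) y) m ≤ J (rel (R := R) x) m := by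
  have h1 : rel (R := R) y ⊆ LinearMap.funLeft R R σ '' rel x := fun z hz =>
    ⟨LinearMap.funLeft R R σ.symm z, rel_map_le x y σ h ⟨z, hz, rfl⟩, by ext j; simp [LinearMap.funLeft_apply]⟩
  exact (J_mono h1 m).trans (J_map_le _ _ m)

theorem F_equiv {ι κ : Type*} [Fintype ι] [Fintype κ] (x : ι → M) (σ : κ ≃ ι) (k : ℕ) :
    F R (x ∘ σ) k = F R x k := by
  classical
  rw [F, F, Fintype.card_congr σ]
  exact le_antisymm (J_rel_equiv_le x _ σ (fun _ => rfl) _)
    (J_rel_equiv_le (x ∘ σ) x σ.symm (fun i => by simp) _)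

theorem J_adjoin {ι : Type w} [Fintype ι] (x : ι → M) (c : ι → R) (m : ℕ) :
    J (rel (R := R) (Sum.elim x fun _ : Unit => ∑ i, c i • x i)) (m + 1) = J (rel (R := R) x) m := by
  classical
  let T : (ι ⊕ Unit → R) →ₗ[R] (ι ⊕ Unit → R) :=
    { toFun := fun z => Sum.elim (fun i => z (Sum.inl i) + z (Sum.inr ()) * c i) (fun u => z (Sum.inr u))
      map_add' := fun z w => by ext (i | u) <;> simp <;> ring
      map_smul' := fun r z => by ext (i | u) <;> simp <;> ring }
  let T' : (ι ⊕ Unit → R) →ₗ[R] (ι ⊕ Unit → R) :=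
    { toFun := fun z => Sum.elim (fun i => z (Sum.inl i) - z (Sum.inr ()) * c i) (fun u => z (Sum.inr u))
      map_add' := fun z w => by ext (i | u) <;> simp <;> ring
      map_smul' := fun r z => by ext (i | u) <;> simp <;> ring }
  let L : Set (ι ⊕ Unit → R) := {w | w ∘ Sum.inl ∈ rel x}
  let G : Set (ι ⊕ Unit → R) := padL '' rel x ∪ padR '' {fun _ => 1}
  have hG : J L (m + 1) = J G (m + 1) := by
    refine le_antisymm ((J_mono (fun w hw => ?_) _).trans (J_span G _).le) (J_mono ?_ _)
    · rw [SetLike.mem_coe, show w = padL (w ∘ Sum.inl) + w (Sum.inr ()) • padR (fun _ => 1) by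
        ext (i | u) <;> simp [padL, padR]]
      exact add_mem (Submodule.subset_span (Or.inl ⟨_, hw, rfl⟩))
        (Submodule.smul_mem _ _ (Submodule.subset_span (Or.inr ⟨_, rfl, rfl⟩)))
    · rintro _ (⟨u, hu, rfl⟩ | ⟨u, -, rfl⟩)
      · exact hu
      · show ∑ i, (0 : R) • x i = 0
        simp
  have h1 : rel (R := R) (Sum.elim x fun _ : Unit => ∑ i, c i • x i) ⊆ T' '' L := fun z hz => by
    refine ⟨T z, ?_, by ext (i | u) <;> simp [T, T']⟩
    show ∑ i, (z (Sum.inl i) + z (Sum.inr ()) * c i) • x i = 0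
    have hz' : ∑ i : ι ⊕ Unit, z i • Sum.elim x (fun _ : Unit => ∑ i, c i • x i) i = 0 := hz
    rw [Fintype.sum_sum_type] at hz'
    simpa [add_smul, Finset.sum_add_distrib, Finset.smul_sum, mul_smul] using hz'
  have h2 : L ⊆ T '' rel (R := R) (Sum.elim x fun _ : Unit => ∑ i, c i • x i) := fun w hw => by
    refine ⟨T' w, ?_, by ext (i | u) <;> simp [T, T']⟩
    show ∑ i : ι ⊕ Unit, (T' w) i • Sum.elim x (fun _ : Unit => ∑ i, c i • x i) i = 0
    have hw' : ∑ i, w (Sum.inl i) • x i = 0 := hw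
    rw [Fintype.sum_sum_type]
    simp [T', sub_smul, Finset.sum_sub_distrib, Finset.smul_sum, mul_smul, hw']
  have hL : J (rel (R := R) (Sum.elim x fun _ : Unit => ∑ i, c i • x i)) (m + 1) = J L (m + 1) :=
    le_antisymm ((J_mono h1 _).trans (J_map_le _ _ _)) ((J_mono h2 _).trans (J_map_le _ _ _))
  rw [hL, hG]
  refine le_antisymm ((J_union_le _ _ _).trans (iSup₂_le fun p hp => ?_)) ?_
  · rw [Finset.mem_range] at hp
    by_cases hq : 1 < m + 1 - p
    · rw [J_eq_bot_of_card_lt ({fun _ => 1} : Set (Unit → R)) (by simpa using hq), Ideal.mul_bot]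
      exact bot_le
    · exact le_trans (Ideal.mul_le_inf.trans inf_le_left) (J_antitone (rel (R := R) x) (show m ≤ p by omega))
  · have h11 : J ({fun _ => 1} : Set (Unit → R)) 1 = ⊤ :=
      (Ideal.eq_top_iff_one _).mpr (Ideal.subset_span ⟨fun _ => fun _ => 1, fun _ => (), fun _ => rfl, by simp [minor]⟩)
    refine le_trans ?_ (mul_le_J_union _ _ m 1)
    rw [h11, Ideal.mul_top]

theorem F_adjoin {ι : Type w} [Fintype ι] (x : ι → M) (y : M) (hy : y ∈ Submodule.span R (Set.range x)) (k : ℕ) :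
    F R (Sum.elim x fun _ : Unit => y) k = F R x k := by
  obtain ⟨c, rfl⟩ := (Submodule.mem_span_range_iff_exists_fun R).mp hy
  rw [F, F, Fintype.card_sum, Fintype.card_unit]
  by_cases hk : k ≤ Fintype.card ι
  · rw [show Fintype.card ι + 1 - k = Fintype.card ι - k + 1 by omega]
    exact J_adjoin x c _
  · rw [show Fintype.card ι + 1 - k = 0 by omega, show Fintype.card ι - k = 0 by omega, J_zero, J_zero]

theorem F_append {ι : Type w} [Fintype ι] (x : ι → M) (hx : Submodule.span R (Set.range x) = ⊤) (k : ℕ) :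
    ∀ (n : ℕ) (y : Fin n → M), F R (Sum.elim x y) k = F R x k := by
  intro n
  induction n with
  | zero =>
    intro y
    rw [← F_equiv (Sum.elim x y) (Equiv.sumEmpty ι (Fin 0)).symm k]
    rfl
  | succ n ih =>
    intro y
    let σ : (ι ⊕ Fin n) ⊕ Unit ≃ ι ⊕ Fin (n + 1) :=
      (Equiv.sumAssoc ι (Fin n) Unit).trans (Equiv.sumCongr (Equiv.refl ι)
        ((Equiv.sumCongr (Equiv.refl _) (Equiv.ofUnique Unit (Fin 1))).trans finSumFinEquiv))
    rw [← F_equiv (Sum.elim x y) σ k, ← ih (y ∘ Fin.castSucc)]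
    have hσ : Sum.elim x y ∘ σ = Sum.elim (Sum.elim x (y ∘ Fin.castSucc)) (fun _ : Unit => y (Fin.last n)) := by
      funext i
      rcases i with (i | i) | i
      · rfl
      · rfl
      · show y _ = y _
        congr 1
    rw [hσ]
    exact F_adjoin _ _ (Submodule.span_mono (by rintro _ ⟨i, rfl⟩; exact ⟨Sum.inl i, rfl⟩)
      (hx ▸ Submodule.mem_top)) k

/-- The ideal does not depend on the generating tuple. -/
theorem F_indep {n n' : ℕ} (x : Fin n → M) (x' : Fin n' → M) (hx : Submodule.span R (Set.range x) = ⊤)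
    (hx' : Submodule.span R (Set.range x') = ⊤) (k : ℕ) : F R x k = F R x' k := by
  rw [← F_append x hx k n' x', ← F_append x' hx' k n x, ← F_equiv (Sum.elim x x') (Equiv.sumComm _ _) k]
  congr 1
  funext i
  rcases i with i | i <;> rfl

/-- The Fitting ideal is computed by the relations of any generating tuple. -/
theorem ideal_eq {n : ℕ} (x : Fin n → M) (hx : Submodule.span R (Set.range x) = ⊤) (k : ℕ) :
    Fitt.ideal R M k = J (rel (R := R) x) (n - k) := by
  have hF : F R x k = J (rel (R := R) x) (n - k) := by rw [F, Fintype.card_fin]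
  refine le_antisymm (Ideal.span_le.mpr ?_) ((J_le_span_det_square _ (Nat.sub_le n k)).trans (Ideal.span_le.mpr ?_))
  · rintro d ⟨n', x', a, hx', ha, rfl⟩
    rw [SetLike.mem_coe, ← hF, F_indep x x' hx hx', F, Fintype.card_fin]
    have hcard : (Finset.univ.filter fun i : Fin n' => (i : ℕ) < n' - k).card = n' - k := by
      rw [Fin.card_filter_val_lt]; omega
    have h1 := minor_mem_card (rel (R := R) x') n' (fun b => a b) id (Finset.univ.filter fun i : Fin n' => (i : ℕ) < n' - k)
      fun b hb => ha b (Finset.mem_filter.mp hb).2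
    rw [hcard] at h1
    convert h1 using 1
    exact (Matrix.det_transpose a).symm
  · rintro d ⟨a, ha, rfl⟩
    exact Ideal.subset_span ⟨n, x, a, hx, ha, rfl⟩

theorem ideal_eq' {ι : Type w} [Fintype ι] (x : ι → M) (hx : Submodule.span R (Set.range x) = ⊤) (k : ℕ) :
    Fitt.ideal R M k = J (rel (R := R) x) (Fintype.card ι - k) := by
  let σ := (Fintype.equivFin ι).symm
  rw [ideal_eq (x ∘ σ) (by rwa [EquivLike.range_comp]) k]
  have h := F_equiv (R := R) x σ k
  rw [F, F, Fintype.card_fin] at h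
  exact h

end FittLib

end
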