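import Mathlib

/-!
# Ideals of minors of sets of vectors
-/

set_option autoImplicit false
universe u v w
open Matrix

noncomputable section

namespace FittLib

variable {R : Type u} [CommRing R] {ι : Type v} {κ : Type w}

/-- The determinant of the coordinates `e` of the vectors `z`. -/
def minor {m : ℕ} (z : Fin m → ι → R) (e : Fin m → ι) : R := (Matrix.of fun a b => z b (e a)).det

theorem minor_eq_lin {m : ℕ} (z : Fin m → ι → R) (e : Fin m → ι) :
    minor z e = (Matrix.detRowAlternating.compLinearMap (LinearMap.funLeft R R e)) z :=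
  (Matrix.det_transpose _).symm

theorem minor_eq_zero_of_not_injective {m : ℕ} (z : Fin m → ι → R) {e : Fin m → ι} (he : ¬ Function.Injective e) :
    minor z e = 0 := by
  obtain ⟨a, a', h, hne⟩ := Function.not_injective_iff.mp he
  exact Matrix.det_zero_of_row_eq hne (funext fun b => show z b (e a) = z b (e a') by rw [h])

/-- The ideal of minors of size `m` of vectors in `G`. -/
def J (G : Set (ι → R)) (m : ℕ) : Ideal R :=
  Ideal.span {d | ∃ (z : Fin m → ι → R) (e : Fin m → ι), (∀ b, z b ∈ G) ∧ d = minor z e}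

theorem minor_mem {G : Set (ι → R)} {m : ℕ} {z : Fin m → ι → R} (e : Fin m → ι) (h : ∀ b, z b ∈ G) :
    minor z e ∈ J G m :=
  Ideal.subset_span ⟨z, e, h, rfl⟩

theorem J_le_iff {G : Set (ι → R)} {m : ℕ} {I : Ideal R} :
    J G m ≤ I ↔ ∀ (z : Fin m → ι → R) (e : Fin m → ι), (∀ b, z b ∈ G) → minor z e ∈ I :=
  ⟨fun h _ e hz => h (minor_mem e hz), fun h => Ideal.span_le.mpr fun _ ⟨z, e, hz, hd⟩ => hd ▸ h z e hz⟩

theorem J_mono {G G' : Set (ι → R)} (h : G ⊆ G') (m : ℕ) : J G m ≤ J G' m :=
  J_le_iff.mpr fun _ e hz => minor_mem e fun b => h (hz b)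

theorem J_zero (G : Set (ι → R)) : J G 0 = ⊤ :=
  (Ideal.eq_top_iff_one _).mpr (Ideal.subset_span ⟨Fin.elim0, Fin.elim0, fun b => b.elim0,
    (Matrix.det_fin_zero).symm⟩)

theorem J_span (G : Set (ι → R)) (m : ℕ) : J (Submodule.span R G : Set (ι → R)) m = J G m := by
  classical
  refine le_antisymm (J_le_iff.mpr fun z e hz => ?_) (J_mono Submodule.subset_span m)
  suffices h : ∀ (s : Finset (Fin m)) (z : Fin m → ι → R), (∀ b ∈ s, z b ∈ Submodule.span R G) →
      (∀ b ∉ s, z b ∈ G) → minor z e ∈ J G m from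
    h Finset.univ z (fun b _ => hz b) fun b hb => absurd (Finset.mem_univ b) hb
  intro s
  induction s using Finset.induction_on with
  | empty => exact fun z _ h => minor_mem e fun b => h b (Finset.notMem_empty b)
  | insert c s hc ih =>
    intro z h1 h2
    suffices h : ∀ v ∈ Submodule.span R G, minor (Function.update z c v) e ∈ J G m by
      simpa using h (z c) (h1 c (Finset.mem_insert_self c s))
    intro v hv
    induction hv using Submodule.span_induction with
    | mem v hv =>
      refine ih _ (fun b hb => ?_) fun b hb => ?_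
      · rw [Function.update_of_ne (fun h : b = c => hc (h ▸ hb))]
        exact h1 b (Finset.mem_insert_of_mem hb)
      · by_cases hbc : b = c
        · subst hbc; simpa using hv
        · rw [Function.update_of_ne hbc]
          exact h2 b (by simp [hbc, hb])
    | zero => rw [minor_eq_lin, AlternatingMap.map_update_zero]; exact zero_mem _
    | add v w _ _ hv hw =>
      rw [minor_eq_lin] at hv hw ⊢
      rw [AlternatingMap.map_update_add]
      exact add_mem hv hw
    | smul r v _ hv =>
      rw [minor_eq_lin] at hv ⊢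
      rw [AlternatingMap.map_update_smul, smul_eq_mul]
      exact Ideal.mul_mem_left _ r hv

theorem minor_mem_card (G : Set (ι → R)) : ∀ (n : ℕ) (z : Fin n → ι → R) (e : Fin n → ι) (S : Finset (Fin n)),
    (∀ b ∈ S, z b ∈ G) → minor z e ∈ J G S.card := by
  intro n
  induction n with
  | zero => intro z e S _; rw [Finset.eq_empty_of_isEmpty S, Finset.card_empty, J_zero]; trivial
  | succ n ih =>
    intro z e S hS
    by_cases hu : ∀ b, b ∈ S
    · rw [Finset.eq_univ_iff_forall.mpr hu, Finset.card_univ, Fintype.card_fin]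
      exact minor_mem e fun b => hS b (hu b)
    · push Not at hu
      obtain ⟨c, hc⟩ := hu
      rw [minor, Matrix.det_succ_column _ c]
      refine Ideal.sum_mem _ fun a _ => Ideal.mul_mem_left _ _ ?_
      let T : Finset (Fin n) := S.preimage c.succAbove (Fin.succAbove_right_injective.injOn)
      have hT : T.card = S.card := by
        rw [← Finset.card_map ⟨c.succAbove, Fin.succAbove_right_injective⟩]
        congr 1
        ext b
        simp only [T, Finset.mem_map, Finset.mem_preimage, Function.Embedding.coeFn_mk]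
        constructor
        · rintro ⟨b', hb', rfl⟩; exact hb'
        · intro hb
          obtain ⟨b', rfl⟩ := Fin.exists_succAbove_eq (fun h : b = c => hc (h ▸ hb))
          exact ⟨b', hb, rfl⟩
      rw [← hT]
      exact ih (z ∘ c.succAbove) (e ∘ a.succAbove) T fun b hb => hS _ (Finset.mem_preimage.mp hb)

theorem J_antitone (G : Set (ι → R)) {m m' : ℕ} (h : m ≤ m') : J G m' ≤ J G m := by
  refine J_le_iff.mpr fun z e hz => ?_
  obtain ⟨S, -, hS⟩ := Finset.exists_subset_card_eq (s := (Finset.univ : Finset (Fin m'))) (n := m) (by simpa using h)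
  exact hS ▸ minor_mem_card G m' z e S fun b _ => hz b

theorem J_eq_bot_of_card_lt [Fintype ι] (G : Set (ι → R)) {m : ℕ} (h : Fintype.card ι < m) : J G m = ⊥ :=
  eq_bot_iff.mpr (J_le_iff.mpr fun z e _ => by
    rw [minor_eq_zero_of_not_injective z fun he => absurd (Fintype.card_le_of_injective e he) (by simp; omega)]
    exact zero_mem _)

theorem J_map_le [Fintype ι] [DecidableEq ι] (T : (ι → R) →ₗ[R] (κ → R)) (G : Set (ι → R)) (m : ℕ) :
    J (T '' G) m ≤ J G m := by
  classical
  refine J_le_iff.mpr fun z e hz => ?_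
  choose z₀ hz₀ hTz using hz
  obtain rfl : (fun b => T (z₀ b)) = z := funext hTz
  let t : Fin m → ι → R := fun a i => T (fun j => if i = j then 1 else 0) (e a)
  have hrow : (fun a b => T (z₀ b) (e a)) = fun a : Fin m => ∑ i, t a i • (fun b => z₀ b i) := by
    funext a b
    conv_lhs => rw [LinearMap.pi_apply_eq_sum_univ T (z₀ b)]
    simp [t, Finset.sum_apply, mul_comm]
  show Matrix.detRowAlternating (fun a b => T (z₀ b) (e a)) ∈ J G m
  rw [hrow, ← AlternatingMap.coe_multilinearMap, MultilinearMap.map_sum]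
  refine Ideal.sum_mem _ fun g _ => ?_
  rw [MultilinearMap.map_smul_univ, smul_eq_mul]
  exact Ideal.mul_mem_left _ _ (minor_mem (z := z₀) g hz₀)

theorem det_submatrix_equiv {n m : Type*} [Fintype n] [DecidableEq n] [Fintype m] [DecidableEq m] (e₁ e₂ : n ≃ m)
    (M : Matrix m m R) : ∃ c : Rˣ, (M.submatrix e₁ e₂).det = c * M.det := by
  refine ⟨Units.map (Int.castRingHom R : ℤ →* R) (Equiv.Perm.sign (e₁.symm.trans e₂)), ?_⟩
  rw [show M.submatrix e₁ e₂ = (M.submatrix id (e₁.symm.trans e₂)).submatrix e₁ e₁ by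
    ext i j; simp, Matrix.det_submatrix_equiv_self, Matrix.det_permute']
  simp

theorem det_eq_zero_of_blocks {n : Type*} [Fintype n] [DecidableEq n] (M : Matrix n n R) (P Q : n → Prop)
    [DecidablePred P] [DecidablePred Q] (h : ∀ a b, ¬ (P a ↔ Q b) → M a b = 0)
    (hc : Fintype.card {a // P a} ≠ Fintype.card {b // Q b}) : M.det = 0 := by
  rw [Matrix.det_apply']
  refine Finset.sum_eq_zero fun σ _ => ?_
  suffices hex : ∃ b, ¬ (P (σ b) ↔ Q b) by
    obtain ⟨b, hb⟩ := hex
    rw [Finset.prod_eq_zero (f := fun i => M (σ i) i) (Finset.mem_univ b) (h _ _ hb), mul_zero]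
  by_contra hcon
  push Not at hcon
  exact hc (Fintype.card_congr (σ.subtypeEquiv fun b => (hcon b).symm)).symm

/-- Vectors supported on the left. -/
def padL (u : ι → R) : ι ⊕ κ → R := Sum.elim u 0

/-- Vectors supported on the right. -/
def padR (u : κ → R) : ι ⊕ κ → R := Sum.elim 0 u

theorem mul_le_J_union (G₁ : Set (ι → R)) (G₂ : Set (κ → R)) (p q : ℕ) :
    J G₁ p * J G₂ q ≤ J (padL '' G₁ ∪ padR '' G₂) (p + q) := by
  rw [J, J, Ideal.span_mul_span', Ideal.span_le]
  rintro _ ⟨_, ⟨z₁, e₁, h₁, rfl⟩, _, ⟨z₂, e₂, h₂, rfl⟩, rfl⟩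
  let s := finSumFinEquiv (m := p) (n := q)
  let z : Fin (p + q) → ι ⊕ κ → R := fun b => Sum.elim (fun i => padL (z₁ i)) (fun i => padR (z₂ i)) (s.symm b)
  let e : Fin (p + q) → ι ⊕ κ := fun a => Sum.map e₁ e₂ (s.symm a)
  have hm : minor z e = minor z₁ e₁ * minor z₂ e₂ := by
    rw [minor, ← Matrix.det_submatrix_equiv_self s, show (Matrix.of fun a b => z b (e a)).submatrix s s =
      Matrix.fromBlocks (Matrix.of fun a b => z₁ b (e₁ a)) 0 0 (Matrix.of fun a b => z₂ b (e₂ a)) by
      ext (a | a) (b | b) <;> simp [z, e, padL, padR], Matrix.det_fromBlocks_zero₂₁]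
    rfl
  show minor z₁ e₁ * minor z₂ e₂ ∈ _
  rw [← hm]
  refine minor_mem e fun b => ?_
  obtain ⟨i | i, rfl⟩ := s.surjective b
  · exact Or.inl ⟨z₁ i, h₁ i, by simp [z]⟩
  · exact Or.inr ⟨z₂ i, h₂ i, by simp [z]⟩

theorem J_union_le (G₁ : Set (ι → R)) (G₂ : Set (κ → R)) (m : ℕ) :
    J (padL '' G₁ ∪ padR '' G₂) m ≤ ⨆ p ∈ Finset.range (m + 1), J G₁ p * J G₂ (m - p) := by
  classical
  refine J_le_iff.mpr fun z e hz => ?_
  let Q : Fin m → Prop := fun b => z b ∈ padL '' G₁
  let P : Fin m → Prop := fun a => (e a).isLeft = true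
  let M : Matrix (Fin m) (Fin m) R := Matrix.of fun a b => z b (e a)
  have h0 : ∀ a b, ¬ (P a ↔ Q b) → M a b = 0 := fun a b hab => by
    show z b (e a) = 0
    by_cases hQ : Q b
    · obtain ⟨u, hu0, hu⟩ := hQ
      rw [← hu]
      rcases hea : e a with i | j
      · exact absurd (iff_of_true (show P a by simp [P, hea]) ⟨u, hu0, hu⟩) hab
      · rfl
    · obtain ⟨u, -, hu⟩ := (hz b).resolve_left hQ
      rw [← hu]
      rcases hea : e a with i | j
      · rfl
      · exact absurd (iff_of_false (show ¬ P a by simp [P, hea]) hQ) hab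
  by_cases hc : Fintype.card {a // P a} = Fintype.card {b // Q b}
  swap
  · show M.det ∈ _
    rw [det_eq_zero_of_blocks M P Q h0 hc]
    exact zero_mem _
  obtain ⟨p, hp⟩ : ∃ p, Fintype.card {b // Q b} = p := ⟨_, rfl⟩
  have hpm : p ≤ m := hp ▸ (Fintype.card_subtype_le _).trans (Fintype.card_fin m).le
  have hQc : Fintype.card {b // ¬ Q b} = m - p := by rw [Fintype.card_subtype_compl, Fintype.card_fin, hp]
  have hPc : Fintype.card {a // ¬ P a} = m - p := by rw [Fintype.card_subtype_compl, Fintype.card_fin, hc, hp]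
  let s₁ := (Fintype.equivFinOfCardEq hp).symm
  let s₂ := (Fintype.equivFinOfCardEq hQc).symm
  let t₁ := (Fintype.equivFinOfCardEq (hc.trans hp)).symm
  let t₂ := (Fintype.equivFinOfCardEq hPc).symm
  let er : Fin p ⊕ Fin (m - p) ≃ Fin m := (Equiv.sumCongr t₁ t₂).trans (Equiv.sumCompl P)
  let ec : Fin p ⊕ Fin (m - p) ≃ Fin m := (Equiv.sumCongr s₁ s₂).trans (Equiv.sumCompl Q)
  obtain ⟨c, hcM⟩ := det_submatrix_equiv er ec M
  have hblk : M.submatrix er ec = Matrix.fromBlocks (Matrix.of fun a b => M (t₁ a) (s₁ b)) 0 0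
      (Matrix.of fun a b => M (t₂ a) (s₂ b)) := by
    ext (a | a) (b | b)
    · rfl
    · exact h0 _ _ fun h => (s₂ b).2 (h.mp (t₁ a).2)
    · exact h0 _ _ fun h => (t₂ a).2 (h.mpr (s₁ b).2)
    · rfl
  show M.det ∈ _
  rw [← Ideal.unit_mul_mem_iff_mem _ c.isUnit, ← hcM, hblk, Matrix.det_fromBlocks_zero₂₁]
  refine Submodule.mem_iSup_of_mem p (Submodule.mem_iSup_of_mem (Finset.mem_range.mpr (by omega)) ?_)
  refine Ideal.mul_mem_mul ?_ ?_
  · choose u hu huz using fun b : Fin p => (show z (s₁ b) ∈ padL '' G₁ from (s₁ b).2)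
    choose i hi using fun a : Fin p => Sum.isLeft_iff.mp (show (e (t₁ a)).isLeft = true from (t₁ a).2)
    have hM : (Matrix.of fun a b => M (t₁ a) (s₁ b)) = Matrix.of fun a b => u b (i a) := by
      ext a b
      show z (s₁ b) (e (t₁ a)) = u b (i a)
      rw [← huz b, hi a]
      rfl
    rw [hM]
    exact minor_mem i hu
  · choose u hu huz using fun b : Fin (m - p) => ((hz (s₂ b)).resolve_left (s₂ b).2)
    choose i hi using fun a : Fin (m - p) =>
      Sum.isRight_iff.mp (Sum.not_isLeft.mp (show ¬ (e (t₂ a)).isLeft = true from (t₂ a).2))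
    have hM : (Matrix.of fun a b => M (t₂ a) (s₂ b)) = Matrix.of fun a b => u b (i a) := by
      ext a b
      show z (s₂ b) (e (t₂ a)) = u b (i a)
      rw [← huz b, hi a]
      rfl
    rw [hM]
    exact minor_mem i hu

theorem J_le_span_det_square {n m : ℕ} (G : Set (Fin n → R)) (hm : m ≤ n) :
    J G m ≤ Ideal.span {d | ∃ a : Matrix (Fin n) (Fin n) R, (∀ i : Fin n, (i : ℕ) < m → a i ∈ G) ∧ d = a.det} := by
  classical
  refine J_le_iff.mpr fun z e hz => ?_
  by_cases he : Function.Injective e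
  swap
  · rw [minor_eq_zero_of_not_injective z he]; exact zero_mem _
  have hcard : Fintype.card {j // j ∉ Set.range e} = n - m := by
    rw [Fintype.card_subtype_compl, Fintype.card_fin]
    congr 1
    exact (Set.card_range_of_injective he).trans (Fintype.card_fin m)
  let tc : Fin m ⊕ Fin (n - m) ≃ Fin n :=
    (Equiv.sumCongr (Equiv.ofInjective e he) (Fintype.equivFinOfCardEq hcard).symm).trans
      (Equiv.sumCompl fun j => j ∈ Set.range e)
  let tr : Fin m ⊕ Fin (n - m) ≃ Fin n := finSumFinEquiv.trans (finCongr (by omega))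
  let a : Matrix (Fin n) (Fin n) R := fun i => Sum.elim z (fun k => Pi.single (tc (Sum.inr k)) 1) (tr.symm i)
  obtain ⟨c, hc⟩ := det_submatrix_equiv tr tc a
  have hblk : a.submatrix tr tc = Matrix.fromBlocks (Matrix.of fun b i => z b (e i))
      (Matrix.of fun b k => z b (tc (Sum.inr k))) 0 1 := by
    ext (b | k) (i | k')
    · simp [a, tc]
    · simp [a]
    · simp [a, Pi.single_apply]
    · simp [a, Pi.single_apply, Matrix.one_apply, eq_comm]
  have hd : minor z e = c * a.det := by
    rw [← hc, hblk, Matrix.det_fromBlocks_zero₂₁, Matrix.det_one, mul_one]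
    exact (Matrix.det_transpose _).symm
  rw [hd]
  refine Ideal.mul_mem_left _ _ (Ideal.subset_span ⟨a, fun i hi => ?_, rfl⟩)
  have h1 : tr.symm i = Sum.inl ⟨i, hi⟩ := by
    rw [Equiv.symm_apply_eq]
    ext
    simp [tr]
  show Sum.elim z _ (tr.symm i) ∈ G
  rw [h1]
  exact hz _

end FittLib

end
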